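import Groth.Agent.PurGR.Factor
import Groth.Agent.Purity.CompFF
import Groth.Agent.LefEssSurj.PurStep

/-!
Clopen subsets of finite étale covers over the punctured spectrum of an adically formally smooth algebra
with one-dimensional fibre: full faithfulness of restriction.
-/

set_option autoImplicit false
set_option linter.style.haveILetI false
set_option maxHeartbeats 1000000
set_option backward.isDefEq.respectTransparency false
universe u

open IsLocalRing TensorProduct AlgebraicGeometry CategoryTheory Limits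

noncomputable section

namespace Groth.Agent.PurGR

attribute [local instance] Algebra.TensorProduct.rightAlgebra

section Ring

variable {B C : Type u} [CommRing B] [IsLocalRing B] [IsNoetherianRing B] [IsAdicComplete (maximalIdeal B) B]
  [CommRing C] [Algebra B C] [Module.Finite B C]

variable (B) in
include B in
/-- Above every prime of a finite algebra over a complete local ring there is a single maximal ideal. -/
theorem exists_unique_maximal (z : Ideal C) [z.IsPrime] :
    ∃ N : MaximalSpectrum C, z ≤ N.asIdeal ∧ ∀ N' : MaximalSpectrum C, z ≤ N'.asIdeal → N' = N := by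
  obtain ⟨M, hM, hzM⟩ := z.exists_le_maximal (Ideal.IsPrime.ne_top ‹_›)
  refine ⟨⟨M, hM⟩, hzM, fun N' hN' => ?_⟩
  haveI : IsLocalRing (C ⧸ z) := FinComplete.isLocalRing_of_isDomain (R := B) (S := C ⧸ z)
  have key : ∀ K : MaximalSpectrum C, z ≤ K.asIdeal →
      K.asIdeal = (maximalIdeal (C ⧸ z)).comap (Ideal.Quotient.mk z) := fun K hK => by
    haveI := K.isMaximal
    have h : (K.asIdeal.map (Ideal.Quotient.mk z)).IsMaximal :=
      Ideal.IsMaximal.map_of_surjective_of_ker_le Ideal.Quotient.mk_surjective (by rwa [Ideal.mk_ker])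
    rw [← eq_maximalIdeal h, Ideal.comap_map_of_surjective _ Ideal.Quotient.mk_surjective,
      ← RingHom.ker_eq_comap_bot, Ideal.mk_ker, sup_eq_left.2 hK]
  exact MaximalSpectrum.ext ((key N' hN').trans (key ⟨M, hM⟩ hzM).symm)

variable (B) in
include B in
/-- The point of `Spec C` lies below the given maximal ideal on an open set. -/
theorem isOpen_le (N : MaximalSpectrum C) : IsOpen {z : PrimeSpectrum C | z.asIdeal ≤ N.asIdeal} := by
  obtain ⟨e, he, heN, hoth⟩ := FinComplete.exists_idempotent (R := B) N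
  have h : {z : PrimeSpectrum C | z.asIdeal ≤ N.asIdeal} = (PrimeSpectrum.basicOpen e : Set (PrimeSpectrum C)) := by
    ext z
    refine ⟨fun h hez => heN (h hez), fun h => ?_⟩
    obtain ⟨N', hzN', -⟩ := exists_unique_maximal B z.asIdeal
    by_contra hne
    have hN' : N' ≠ N := fun e' => hne (e' ▸ hzN')
    have h0 : e * (1 - e) ∈ z.asIdeal := by rw [mul_sub, mul_one, he.eq, sub_self]; exact zero_mem _
    haveI := N'.isMaximal
    have h1 := hzN' ((z.2.mem_or_mem h0).resolve_left h)
    exact N'.isMaximal.ne_top ((Ideal.eq_top_iff_one _).2 (by simpa using add_mem h1 (hoth N' hN')))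
  rw [h]
  exact (PrimeSpectrum.basicOpen e).2

/-- Clopen subsets of the non-closed points extend uniquely, when below every maximal ideal there is a
non-maximal prime containing all the minimal ones. -/
theorem existsUnique_clopen
    (hQ : ∀ N : Ideal C, N.IsMaximal → ∃ Q : PrimeSpectrum C, Q.asIdeal < N ∧
      ∀ P ∈ minimalPrimes C, P ≤ N → P ≤ Q.asIdeal)
    {T : Type*} [TopologicalSpace T] (j : T → PrimeSpectrum C) (hj : Continuous j)
    (hrange : Set.range j = {z | z.asIdeal.comap (algebraMap B C) ≠ maximalIdeal B})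
    (hind : Topology.IsInducing j) (W' : Set T) (hW' : IsClopen W') :
    ∃! W : Set (PrimeSpectrum C), IsClopen W ∧ j ⁻¹' W = W' := by
  classical
  haveI : Algebra.IsIntegral B C := Algebra.IsIntegral.of_finite B C
  choose μ hμ hμu using fun z : PrimeSpectrum C => exists_unique_maximal B z.asIdeal
  choose Q hQN hQP using fun N : MaximalSpectrum C => hQ N.asIdeal N.isMaximal
  have hO : ∀ z w : PrimeSpectrum C, ∀ N : MaximalSpectrum C, z.asIdeal ≤ w.asIdeal → w.asIdeal < N.asIdeal →
      z ∈ Set.range j := fun z w N hzw hw => by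
    rw [hrange]
    intro h
    have h1 := (Ideal.IsIntegral.comap_lt_comap (R := B) (lt_of_le_of_lt hzw hw))
    rw [h] at h1
    exact h1.not_ge (le_maximalIdeal (Ideal.comap_ne_top _ N.isMaximal.ne_top))
  -- membership is constant along specialisations inside the range
  have hspec : ∀ a b : T, j a ⤳ j b → (a ∈ W' ↔ b ∈ W') := fun a b hab => by
    have h := hind.specializes_iff.1 hab
    exact ⟨fun ha => h.mem_closed hW'.1 ha, fun hb => h.mem_open hW'.2 hb⟩
  choose q hq using fun N : MaximalSpectrum C => hO (Q N) (Q N) N le_rfl (hQN N)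
  let W : Set (PrimeSpectrum C) := {z | q (μ z) ∈ W'}
  have hWc : IsClopen W := by
    have hopen : ∀ S : Set T, IsOpen {z : PrimeSpectrum C | q (μ z) ∈ S} := fun S => by
      refine isOpen_iff_forall_mem_open.2 fun z hz => ⟨_, fun w hw => ?_, isOpen_le B (μ z), hμ z⟩
      show q (μ w) ∈ S
      rw [← hμu w (μ z) hw]
      exact hz
    exact ⟨⟨hopen W'ᶜ⟩, hopen W'⟩
  have hmin : ∀ z : PrimeSpectrum C, ∃ P : PrimeSpectrum C, P.asIdeal ∈ minimalPrimes C ∧ P ⤳ z ∧
      P ⤳ Q (μ z) ∧ ∃ t, j t = P := fun z => by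
    obtain ⟨P, hP, hPz⟩ := Ideal.exists_minimalPrimes_le (bot_le (a := z.asIdeal))
    have hPQ := hQP (μ z) P hP (hPz.trans (hμ z))
    refine ⟨⟨P, hP.1.1⟩, hP, (PrimeSpectrum.le_iff_specializes _ _).1 hPz,
      (PrimeSpectrum.le_iff_specializes _ _).1 hPQ, hO _ (Q (μ z)) (μ z) hPQ (hQN (μ z))⟩
  have hW : j ⁻¹' W = W' := by
    ext t
    obtain ⟨P, -, hPz, hPQ, s, rfl⟩ := hmin (j t)
    show q (μ (j t)) ∈ W' ↔ _
    rw [← hspec s t hPz, hspec s (q (μ (j t))) (by rw [hq]; exact hPQ)]
  refine ⟨W, ⟨hWc, hW⟩, fun W₁ ⟨hW₁c, hW₁⟩ => Set.ext fun z => ?_⟩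
  obtain ⟨P, -, hPz, -, s, rfl⟩ := hmin z
  have key : ∀ V : Set (PrimeSpectrum C), IsClopen V → (z ∈ V ↔ s ∈ j ⁻¹' V) := fun V hV =>
    ⟨fun hz => hPz.mem_open hV.2 hz, fun hs => hPz.mem_closed hV.1 hs⟩
  rw [key W₁ hW₁c, key W hWc, hW₁, hW]

end Ring

variable {A B : Type u} [CommRing A] [IsLocalRing A] [IsNoetherianRing A]
  [CommRing B] [IsLocalRing B] [IsNoetherianRing B] [Algebra A B] [IsLocalHom (algebraMap A B)]
  (hfs : CAlgX.IsAdicFormallySmooth A B (maximalIdeal B))
  (hdim : ringKrullDim (B ⧸ (maximalIdeal A).map (algebraMap A B)) = 1)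

section Factor

variable {A'' : Type u} [CommRing A''] [Algebra A A''] [Module.Finite A A'']
  {C : Type u} [CommRing C] [Algebra (A'' ⊗[A] B) C] [Module.Finite (A'' ⊗[A] B) C] [Algebra.Etale (A'' ⊗[A] B) C]
  [Algebra A'' C] [IsScalarTower A'' (A'' ⊗[A] B) C] [Algebra B C] [IsScalarTower B (A'' ⊗[A] B) C]

variable (A'') in
include hfs hdim A'' in
/-- Below every maximal ideal lies a non-maximal prime containing all minimal primes below it. -/
theorem exists_hub (N : Ideal C) (hN : N.IsMaximal) :
    ∃ Q : PrimeSpectrum C, Q.asIdeal < N ∧ ∀ P ∈ minimalPrimes C, P ≤ N → P ≤ Q.asIdeal := by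
  haveI := hN
  obtain ⟨hn, hloc, hfsN, hdimN⟩ := localFactor (A'' := A'') hfs hdim N
  let n := N.comap (algebraMap A'' C)
  let An := Localization.AtPrime n
  let CN := Localization.AtPrime N
  letI : Algebra An CN := (Localization.localRingHom n N (algebraMap A'' C) rfl).toAlgebra
  haveI := hloc
  haveI : IsNoetherianRing A'' := IsNoetherianRing.of_finite A A''
  haveI : IsNoetherianRing (A'' ⊗[A] B) := by
    haveI : Module.Finite B (A'' ⊗[A] B) := finite_rightAlgebra A B A''
    exact IsNoetherianRing.of_finite B _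
  haveI : IsNoetherianRing C := IsNoetherianRing.of_finite (A'' ⊗[A] B) C
  haveI := isRegularLocalRing_fibre (A := An) (B := CN) hfsN
  haveI : Module.Flat An CN := GRingCpl.flat_of_adicFormallySmooth hfsN
  let I := (maximalIdeal An).map (algebraMap An CN)
  haveI : IsDomain (CN ⧸ I) := RegLoc.isDomain _
  haveI hI : I.IsPrime := (Ideal.Quotient.isDomain_iff_prime I).1 inferInstance
  have hIne : I ≠ maximalIdeal CN := fun h => by
    have hf : IsField (CN ⧸ I) := (Ideal.Quotient.maximal_ideal_iff_isField_quotient I).1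
      (h ▸ maximalIdeal.isMaximal CN)
    rw [ringKrullDim_eq_zero_of_isField hf] at hdimN
    exact zero_ne_one hdimN
  refine ⟨⟨I.comap (algebraMap C CN), inferInstance⟩, ?_, fun P hP hPN => ?_⟩
  · show I.comap (algebraMap C CN) < N
    refine lt_of_lt_of_eq ?_ (Localization.AtPrime.under_maximalIdeal (I := N))
    refine lt_of_le_of_ne (Ideal.comap_mono (le_maximalIdeal hI.ne_top)) fun h => hIne ?_
    rw [← IsLocalization.map_under N.primeCompl CN I, ← IsLocalization.map_under N.primeCompl CN (maximalIdeal CN)]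
    exact congrArg (Ideal.map (algebraMap C CN)) h
  · intro x hx
    haveI := hP.1.1
    show algebraMap C CN x ∈ I
    by_contra hxI
    -- a non-zero-divisor on the fibre is a non-zero-divisor
    have hreg : RingTheory.Sequence.IsWeaklyRegular (CN ⧸ (I • (⊤ : Submodule CN CN))) [algebraMap C CN x] := by
      rw [RingTheory.Sequence.isWeaklyRegular_singleton_iff]
      intro y z hyz
      obtain ⟨y, rfl⟩ := Submodule.Quotient.mk_surjective _ y
      obtain ⟨z, rfl⟩ := Submodule.Quotient.mk_surjective _ z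
      simp only [← Submodule.Quotient.mk_smul, smul_eq_mul, Submodule.Quotient.eq, ← mul_sub, Ideal.mul_top] at hyz ⊢
      exact (hI.mem_or_mem hyz).resolve_left hxI
    obtain ⟨hw, -⟩ := S5774.result An CN CN [algebraMap C CN x] hreg
    rw [RingTheory.Sequence.isWeaklyRegular_singleton_iff] at hw
    have hdis : Disjoint (N.primeCompl : Set C) (P : Set C) := Set.disjoint_left.2 fun c hc hcP => hc (hPN hcP)
    have hmin : P.map (algebraMap C CN) ∈ minimalPrimes CN := by
      refine ⟨⟨IsLocalization.isPrime_of_isPrime_disjoint N.primeCompl CN P inferInstance hdis, bot_le⟩,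
        fun R hR hRle => ?_⟩
      haveI := hR.1
      have h1 : R.comap (algebraMap C CN) ≤ P :=
        (Ideal.comap_mono hRle).trans (IsLocalization.under_map_of_isPrime_disjoint N.primeCompl CN inferInstance hdis).le
      rw [← IsLocalization.map_under N.primeCompl CN R]
      exact Ideal.map_mono (hP.2 ⟨inferInstance, bot_le⟩ h1)
    refine Set.disjoint_left.1 (Ideal.disjoint_nonZeroDivisors_of_mem_minimalPrimes hmin)
      (Ideal.mem_map_of_mem _ hx) (mem_nonZeroDivisors_iff_right.2 fun z hz => hw ?_)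
    show algebraMap C CN x • z = algebraMap C CN x • 0
    rw [smul_eq_mul, smul_eq_mul, mul_comm, hz, mul_zero]

end Factor

variable [IsAdicComplete (maximalIdeal B) B]

include hfs hdim in
/-- **Full faithfulness**: restriction of finite étale covers of `A'' ⊗ B` to the preimage of the punctured
spectrum of `B`, for every finite `A`-algebra `A''`. -/
theorem full_faithful_punct (A'' : Type u) [CommRing A''] [Algebra A A''] [Module.Finite A A''] :
    (FEt.restrict (Spec.map (CommRingCat.ofHom (algebraMap B (A'' ⊗[A] B))) ⁻¹ᵁ FEt.puncturedSpec B).ι).Full ∧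
      (FEt.restrict (Spec.map (CommRingCat.ofHom (algebraMap B (A'' ⊗[A] B))) ⁻¹ᵁ FEt.puncturedSpec B).ι).Faithful := by
  let D := A'' ⊗[A] B
  let p := Spec.map (CommRingCat.ofHom (algebraMap B D))
  let U := p ⁻¹ᵁ FEt.puncturedSpec B
  refine Purity.restrict_full_faithful_of_clopen U.ι fun Z π hfin het W' hW' => ?_
  haveI := hfin
  haveI := het
  haveI : IsAffine Z := isAffine_of_isAffineHom π
  let C : Type u := Γ(Z, ⊤)
  let φ : CommRingCat.of D ⟶ Γ(Z, ⊤) := Spec.preimage (Z.isoSpec.inv ≫ π)
  have hφ : Spec.map φ = Z.isoSpec.inv ≫ π := Spec.map_preimage _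
  letI : Algebra D C := φ.hom.toAlgebra
  haveI : IsFinite (Spec.map φ) := hφ ▸ inferInstance
  haveI : Etale (Spec.map φ) := hφ ▸ inferInstance
  haveI : Module.Finite D C := RingHom.finite_algebraMap.1 ((IsFinite.SpecMap_iff φ).1 ‹_›)
  haveI : Algebra.Etale D C :=
    RingHom.etale_algebraMap.1 ((HasRingHomProperty.Spec_iff (P := @Etale)).1 ‹_›)
  letI : Algebra A'' C := ((algebraMap D C).comp (algebraMap A'' D)).toAlgebra
  letI : Algebra B C := ((algebraMap D C).comp (algebraMap B D)).toAlgebra
  haveI : IsScalarTower A'' D C := IsScalarTower.of_algebraMap_eq' rfl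
  haveI : IsScalarTower B D C := IsScalarTower.of_algebraMap_eq' rfl
  haveI : Module.Finite B D := finite_rightAlgebra A B A''
  haveI : Module.Finite B C := Module.Finite.trans D C
  let h : Z ≅ Spec (CommRingCat.of C) := Z.isoSpec
  let j : ↥(pullback π U.ι) → PrimeSpectrum C := fun t => h.hom (pullback.fst π U.ι t)
  have hind : Topology.IsInducing j :=
    h.hom.isOpenEmbedding.isInducing.comp (pullback.fst π U.ι).isOpenEmbedding.isInducing
  have hrange : Set.range j = {z | z.asIdeal.comap (algebraMap B C) ≠ maximalIdeal B} := by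
    have key : ∀ x : Z, π x ∈ U ↔ (h.hom x).asIdeal.comap (algebraMap B C) ≠ maximalIdeal B := fun x => by
      have h1 : π x = Spec.map φ (h.hom x) := by
        rw [hφ]
        show π x = π (h.inv (h.hom x))
        exact congrArg π ((congrArg (fun g : Z ⟶ Z => g x) h.hom_inv_id).symm)
      rw [h1]
      exact not_congr PrimeSpectrum.ext_iff
    ext z
    obtain ⟨x, rfl⟩ := h.hom.surjective z
    rw [Set.mem_setOf_eq, ← key x]
    constructor
    · rintro ⟨t, ht⟩
      have : pullback.fst π U.ι t = x := h.hom.isOpenEmbedding.injective ht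
      rw [← this, ← Scheme.Hom.comp_apply, pullback.condition, Scheme.Hom.comp_apply]
      exact (pullback.snd π U.ι t).2
    · intro hx
      obtain ⟨t, ht⟩ : x ∈ Set.range (pullback.fst π U.ι) := by
        rw [IsOpenImmersion.range_pullbackFst]
        exact ⟨⟨π x, hx⟩, rfl⟩
      exact ⟨t, congrArg h.hom ht⟩
  obtain ⟨W, ⟨hWc, hW⟩, huniq⟩ := existsUnique_clopen (B := B) (C := C) (exists_hub hfs hdim A'') j
    hind.continuous hrange hind W' hW'
  refine ⟨h.hom ⁻¹' W, ⟨hWc.preimage h.hom.continuous, hW⟩, fun V ⟨hVc, hV⟩ => ?_⟩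
  have h2 : ∀ x : Z, h.inv (h.hom x) = x := fun x => by
    rw [← Scheme.Hom.comp_apply, Iso.hom_inv_id]; rfl
  have := huniq (h.inv ⁻¹' V) ⟨hVc.preimage h.inv.continuous, by
    rw [← hV]; ext t; exact Iff.of_eq (congrArg (· ∈ V) (h2 _))⟩
  rw [← this]
  ext x
  exact Iff.of_eq (congrArg (· ∈ V) (h2 x).symm)

end Groth.Agent.PurGR
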