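import Groth.Agent.S2903
import Groth.Agent.SubDescent.EtaleHom
import Groth.Agent.Purity.ConnFibFF
import Groth.Agent.LefEssSurj.Extends

/-!
Extension of finite étale covers from an open, by descent along a finite surjective morphism, when
restriction to the open is fully faithful on the fibre powers.
-/

set_option autoImplicit false
set_option linter.style.haveILetI false
set_option maxHeartbeats 1000000
set_option backward.isDefEq.respectTransparency false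
universe u

open AlgebraicGeometry CategoryTheory Limits

noncomputable section

namespace Groth.Agent.PurGR

variable {Xk Y P Q : Scheme.{u}} (W : Xk.Opens) (π : P ⟶ Xk) (hπ : FEt.prop π) (ρ : Q ⟶ Y) (hρ : FEt.prop ρ)
  (y : Xk ⟶ Y)

include hπ hρ in
/-- Maps of finite étale covers agreeing over an open are equal when restriction to it is faithful. -/
theorem hom_ext_of_ff [(FEt.restrict W.ι).Faithful] (a b : P ⟶ Q) (ha : a ≫ ρ = π ≫ y) (hb : b ≫ ρ = π ≫ y)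
    (h : (π ⁻¹ᵁ W).ι ≫ a = (π ⁻¹ᵁ W).ι ≫ b) : a = b := by
  let E₁ : FEt.Cat Xk := MorphismProperty.Over.mk ⊤ π hπ
  let E₂ : FEt.Cat Xk := MorphismProperty.Over.mk ⊤ (pullback.snd ρ y) (MorphismProperty.pullback_snd _ _ hρ)
  let A : E₁ ⟶ E₂ := MorphismProperty.Over.homMk (pullback.lift a π ha) (pullback.lift_snd _ _ _)
  let B : E₁ ⟶ E₂ := MorphismProperty.Over.homMk (pullback.lift b π hb) (pullback.lift_snd _ _ _)
  have key : (FEt.restrict W.ι).map A = (FEt.restrict W.ι).map B := by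
    ext
    apply pullback.hom_ext
    · have hr : Set.range (pullback.fst π W.ι) ⊆ Set.range (π ⁻¹ᵁ W).ι := by
        rw [IsOpenImmersion.range_pullbackFst, Scheme.Opens.range_ι]; simp
      show pullback.lift (pullback.fst π W.ι ≫ pullback.lift a π ha) (pullback.snd π W.ι) _ ≫ pullback.fst _ _ =
        pullback.lift (pullback.fst π W.ι ≫ pullback.lift b π hb) (pullback.snd π W.ι) _ ≫ pullback.fst _ _
      rw [pullback.lift_fst, pullback.lift_fst, ← IsOpenImmersion.lift_fac (π ⁻¹ᵁ W).ι _ hr, Category.assoc,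
        Category.assoc]
      congr 1
      apply pullback.hom_ext <;> simp [h]
    · exact (MorphismProperty.Over.w ((FEt.restrict W.ι).map A)).trans
        (MorphismProperty.Over.w ((FEt.restrict W.ι).map B)).symm
  have h2 := congrArg (fun F : E₁ ⟶ E₂ => F.left) ((FEt.restrict W.ι).map_injective key)
  simpa [A, B] using congrArg (· ≫ pullback.fst ρ y) h2

include hπ hρ in
/-- Maps over an open extend when restriction to it is full. -/
theorem exists_hom_of_ff [(FEt.restrict W.ι).Full] (a₀ : (π ⁻¹ᵁ W : P.Opens).toScheme ⟶ Q)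
    (ha : a₀ ≫ ρ = (π ⁻¹ᵁ W).ι ≫ π ≫ y) :
    ∃ a : P ⟶ Q, a ≫ ρ = π ≫ y ∧ (π ⁻¹ᵁ W).ι ≫ a = a₀ := by
  let E₁ : FEt.Cat Xk := MorphismProperty.Over.mk ⊤ π hπ
  let E₂ : FEt.Cat Xk := MorphismProperty.Over.mk ⊤ (pullback.snd ρ y) (MorphismProperty.pullback_snd _ _ hρ)
  let c := (pullbackRestrictIsoRestrict π W).hom
  have hc : c ≫ (π ⁻¹ᵁ W).ι = pullback.fst π W.ι := pullbackRestrictIsoRestrict_hom_ι π W
  have hcy : (c ≫ a₀) ≫ ρ = pullback.fst π W.ι ≫ π ≫ y := by rw [Category.assoc, ha, reassoc_of% hc]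
  let m : pullback π W.ι ⟶ pullback ρ y :=
    pullback.lift (c ≫ a₀) (pullback.fst π W.ι ≫ π) (by rw [hcy, Category.assoc])
  let Φ : (FEt.restrict W.ι).obj E₁ ⟶ (FEt.restrict W.ι).obj E₂ :=
    MorphismProperty.Over.homMk (pullback.lift m (pullback.snd π W.ι) (by
      show m ≫ pullback.snd ρ y = _
      rw [pullback.lift_snd]
      exact pullback.condition)) (pullback.lift_snd _ _ _)
  let F := (FEt.restrict W.ι).preimage Φ
  have hF : (FEt.restrict W.ι).map F = Φ := Functor.map_preimage _ _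
  refine ⟨F.left ≫ pullback.fst ρ y, ?_, ?_⟩
  · rw [Category.assoc, pullback.condition, ← Category.assoc]
    exact congrArg (· ≫ y) (MorphismProperty.Over.w F)
  · have h := congrArg (fun G : (FEt.restrict W.ι).obj E₁ ⟶ (FEt.restrict W.ι).obj E₂ =>
      G.left ≫ pullback.fst (pullback.snd ρ y) W.ι) hF
    change pullback.lift (pullback.fst π W.ι ≫ F.left) (pullback.snd π W.ι) _ ≫ pullback.fst _ _ =
      pullback.lift m (pullback.snd π W.ι) _ ≫ pullback.fst _ _ at h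
    rw [pullback.lift_fst, pullback.lift_fst] at h
    have h2 := congrArg (· ≫ pullback.fst ρ y) h
    simp only [m, Category.assoc, pullback.lift_fst, ← hc] at h2
    exact (cancel_epi c).1 h2

section Extend

variable {X X' : Scheme.{u}} [IsLocallyNoetherian X] (g : X' ⟶ X) [IsFinite g] [Surjective g] (U : X.Opens)

/-- **Extension by descent.** -/
theorem extends_of_finite_surjective (E : FEt.Cat U.toScheme)
    (hext : LefEssSurj.Extends (g ⁻¹ᵁ U).ι ((FEt.restrict (g ∣_ U)).obj E))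
    (hf1 : (FEt.restrict (g ⁻¹ᵁ U).ι).Faithful)
    (hf2 : (FEt.restrict ((pullback.fst g g ≫ g) ⁻¹ᵁ U).ι).Full ∧
      (FEt.restrict ((pullback.fst g g ≫ g) ⁻¹ᵁ U).ι).Faithful)
    (hf3 : (FEt.restrict ((pullback.fst (pullback.fst g g ≫ g) g ≫ pullback.fst g g ≫ g) ⁻¹ᵁ U).ι).Faithful) :
    LefEssSurj.Extends U.ι E := by
  obtain ⟨G, ⟨ε⟩⟩ := hext
  have hres : ∀ {A B : Scheme.{u}} (f : A ⟶ B) (W : B.Opens),
      (pullbackRestrictIsoRestrict f W).inv ≫ pullback.snd f W.ι = f ∣_ W := fun f W => rfl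
  haveI : IsFinite G.hom := G.prop.1
  haveI : Etale G.hom := G.prop.2
  haveI : Etale E.hom := E.prop.2
  haveI : IsFinite E.hom := E.prop.1
  let U' := g ⁻¹ᵁ U
  let V : G.left.Opens := G.hom ⁻¹ᵁ U'
  let pV := G.hom ∣_ U'
  let gU := g ∣_ U
  let εl : pullback G.hom U'.ι ≅ pullback E.hom gU :=
    (MorphismProperty.Over.forget FEt.prop ⊤ U'.toScheme ⋙ CategoryTheory.Over.forget _).mapIso ε
  have hεw : εl.hom ≫ pullback.snd E.hom gU = pullback.snd G.hom U'.ι := MorphismProperty.Over.w ε.hom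
  let i₀ : V.toScheme ≅ pullback E.hom gU := (pullbackRestrictIsoRestrict G.hom U').symm ≪≫ εl
  have hi₀ : i₀.hom ≫ pullback.snd E.hom gU = pV := by
    simp only [i₀, Iso.trans_hom, Iso.symm_hom, Category.assoc, hεw]
    exact hres G.hom U'
  have hi₀' : i₀.inv ≫ V.ι ≫ G.hom = pullback.snd E.hom gU ≫ U'.ι := by
    rw [Iso.inv_comp_eq, reassoc_of% hi₀]
    exact (morphismRestrict_ι G.hom U').symm
  let eG : V.toScheme ⟶ E.left := i₀.hom ≫ pullback.fst E.hom gU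
  have sq : IsPullback eG pV E.hom gU :=
    (IsPullback.of_hasPullback E.hom gU).of_iso i₀.symm (Iso.refl _) (Iso.refl _) (Iso.refl _)
      (by simp [eG]) (by simp [← hi₀]) (by simp) (by simp)
  -- the gluing morphism over `X' ×_X X'`
  let X2 := pullback g g
  let r2 : X2 ⟶ X := pullback.fst g g ≫ g
  let W2 : X2.Opens := r2 ⁻¹ᵁ U
  haveI := hf2.1
  haveI := hf2.2
  let P0 := pullback G.hom (pullback.fst g g)
  let π0 : P0 ⟶ X2 := pullback.snd G.hom (pullback.fst g g)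
  have hπ0 : FEt.prop π0 := MorphismProperty.pullback_snd _ _ G.prop
  let O0 : P0.Opens := π0 ⁻¹ᵁ W2
  have hr0 : Set.range (O0.ι ≫ pullback.fst G.hom (pullback.fst g g)) ⊆ Set.range V.ι := by
    rintro _ ⟨z, rfl⟩
    rw [Scheme.Opens.range_ι]
    show (O0.ι ≫ pullback.fst G.hom (pullback.fst g g) ≫ G.hom ≫ g) z ∈ U
    rw [pullback.condition_assoc]
    exact z.2
  let t0 := IsOpenImmersion.lift V.ι _ hr0
  have hr1 : Set.range (O0.ι ≫ π0 ≫ pullback.snd g g) ⊆ Set.range U'.ι := by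
    rintro _ ⟨z, rfl⟩
    rw [Scheme.Opens.range_ι]
    show (O0.ι ≫ π0 ≫ pullback.snd g g ≫ g) z ∈ U
    rw [← pullback.condition]
    exact z.2
  let x1' := IsOpenImmersion.lift U'.ι _ hr1
  have hcond : (t0 ≫ eG) ≫ E.hom = x1' ≫ gU := by
    rw [Category.assoc, sq.w, ← cancel_mono U.ι]
    simp only [Category.assoc, gU, morphismRestrict_ι]
    show t0 ≫ (G.hom ∣_ U') ≫ U'.ι ≫ g = x1' ≫ U'.ι ≫ g
    rw [morphismRestrict_ι_assoc]
    show t0 ≫ V.ι ≫ G.hom ≫ g = x1' ≫ U'.ι ≫ g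
    rw [IsOpenImmersion.lift_fac_assoc, IsOpenImmersion.lift_fac_assoc]
    simp [π0, pullback.condition_assoc, pullback.condition]
  let a₀ : O0.toScheme ⟶ G.left := sq.lift (t0 ≫ eG) x1' hcond ≫ V.ι
  have ha₀ : a₀ ≫ G.hom = O0.ι ≫ π0 ≫ pullback.snd g g := by
    rw [Category.assoc, ← morphismRestrict_ι, sq.lift_snd_assoc, IsOpenImmersion.lift_fac]
  obtain ⟨a, ha, haι⟩ := exists_hom_of_ff W2 π0 hπ0 G.hom G.prop (pullback.snd g g) a₀ ha₀
  let act : ∀ {T : Scheme.{u}} (x₀ x₁ : T ⟶ X'), x₀ ≫ g = x₁ ≫ g → Desc.Lifts (Over.mk G.hom) x₀ →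
      Desc.Lifts (Over.mk G.hom) x₁ := fun x₀ x₁ h v =>
    ⟨pullback.lift v.1 (pullback.lift x₀ x₁ h) (v.2.trans (pullback.lift_fst _ _ _).symm) ≫ a, by
      show (_ ≫ a) ≫ G.hom = _
      rw [Category.assoc, ha]
      simp [π0]⟩
  -- its behaviour over `U`
  have spec : ∀ {T : Scheme.{u}} (x₀ x₁ : T ⟶ X') (h : x₀ ≫ g = x₁ ≫ g) (v : Desc.Lifts (Over.mk G.hom) x₀)
      (t : T ⟶ V.toScheme), t ≫ V.ι = v.1 → ∃ t' : T ⟶ V.toScheme, t' ≫ V.ι = (act x₀ x₁ h v).1 ∧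
        t' ≫ eG = t ≫ eG ∧ t' ≫ pV ≫ U'.ι = x₁ := by
    intro T x₀ x₁ h v t ht
    let s : T ⟶ P0 := pullback.lift v.1 (pullback.lift x₀ x₁ h) (v.2.trans (pullback.lift_fst _ _ _).symm)
    have hs : s ≫ π0 ≫ r2 = v.1 ≫ G.hom ≫ g := by
      rw [← Category.assoc v.1, show v.1 ≫ G.hom = x₀ from v.2]
      simp [s, π0, r2]
    have hr : Set.range s ⊆ Set.range O0.ι := by
      rintro _ ⟨z, rfl⟩
      rw [Scheme.Opens.range_ι]
      show (π0 ≫ r2) (s z) ∈ U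
      rw [← Scheme.Hom.comp_apply, hs, ← ht, Category.assoc, Scheme.Hom.comp_apply]
      exact (t z).2
    let t'' := IsOpenImmersion.lift O0.ι s hr
    have ht'' : t'' ≫ O0.ι = s := IsOpenImmersion.lift_fac _ _ _
    have h0 : t'' ≫ t0 = t := by
      rw [← cancel_mono V.ι, Category.assoc, IsOpenImmersion.lift_fac, reassoc_of% ht'', ht]
      exact pullback.lift_fst _ _ _
    refine ⟨t'' ≫ sq.lift (t0 ≫ eG) x1' hcond, ?_, ?_, ?_⟩
    · show _ = s ≫ a
      rw [← ht'', Category.assoc, Category.assoc, haι]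
    · rw [Category.assoc, sq.lift_fst, reassoc_of% h0]
    · rw [Category.assoc, sq.lift_snd_assoc, IsOpenImmersion.lift_fac, reassoc_of% ht'']
      simp [s, π0]
  have uniq : ∀ {T : Scheme.{u}} (t t' : T ⟶ V.toScheme), t ≫ eG = t' ≫ eG → t ≫ pV ≫ U'.ι = t' ≫ pV ≫ U'.ι →
      t = t' := fun t t' h1 h2 => sq.hom_ext h1 (by rw [← cancel_mono U'.ι]; simpa using h2)
  have nat : ∀ ⦃T T' : Scheme.{u}⦄ (k : T' ⟶ T) (x₀ x₁ : T ⟶ X') (h : x₀ ≫ g = x₁ ≫ g)
      (h' : (k ≫ x₀) ≫ g = (k ≫ x₁) ≫ g) (v : Desc.Lifts (Over.mk G.hom) x₀)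
      (v' : Desc.Lifts (Over.mk G.hom) (k ≫ x₀)), v'.1 = k ≫ v.1 →
      (act (k ≫ x₀) (k ≫ x₁) h' v').1 = k ≫ (act x₀ x₁ h v).1 := by
    intro T T' k x₀ x₁ h h' v v' hv'
    show _ ≫ a = k ≫ _ ≫ a
    rw [← Category.assoc k]
    congr 1
    apply pullback.hom_ext
    · simp [hv']
    · apply pullback.hom_ext <;> simp
  -- identity
  have hself : ∀ ⦃T : Scheme.{u}⦄ (x : T ⟶ X') (v : Desc.Lifts (Over.mk G.hom) x), act x x rfl v = v := by
    have huniv : (act G.hom G.hom rfl ⟨𝟙 _, Category.id_comp _⟩).1 = 𝟙 G.left := by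
      haveI := hf1
      refine hom_ext_of_ff U' G.hom G.prop G.hom G.prop (𝟙 X') _ _
        ((act G.hom G.hom rfl ⟨𝟙 _, Category.id_comp _⟩).2.trans (Category.comp_id _).symm) (by simp) ?_
      have h1 := nat V.ι G.hom G.hom rfl rfl ⟨𝟙 _, Category.id_comp _⟩ ⟨V.ι, rfl⟩ (Category.comp_id _).symm
      obtain ⟨t', ht', he, hx⟩ := spec (V.ι ≫ G.hom) (V.ι ≫ G.hom) rfl ⟨V.ι, rfl⟩ (𝟙 _) (Category.id_comp _)
      erw [← h1, ← ht', Category.comp_id]
      rw [uniq t' (𝟙 _) he (by rw [hx, Category.id_comp, morphismRestrict_ι]), Category.id_comp]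
    intro T x v
    obtain ⟨v, hv⟩ := v
    subst hv
    refine Subtype.ext ?_
    erw [nat v G.hom G.hom rfl rfl ⟨𝟙 _, Category.id_comp _⟩ ⟨v, rfl⟩ (Category.comp_id _).symm, huniv, Category.comp_id]
  -- cocycle
  have hcomp : ∀ ⦃T : Scheme.{u}⦄ (x₀ x₁ x₂ : T ⟶ X') (h₀₁ : x₀ ≫ g = x₁ ≫ g) (h₁₂ : x₁ ≫ g = x₂ ≫ g)
      (v : Desc.Lifts (Over.mk G.hom) x₀),
      act x₁ x₂ h₁₂ (act x₀ x₁ h₀₁ v) = act x₀ x₂ (h₀₁.trans h₁₂) v := by
    let X3 := pullback r2 g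
    let p01 : X3 ⟶ X2 := pullback.fst r2 g
    let r3 : X3 ⟶ X := p01 ≫ r2
    let q₀ := p01 ≫ pullback.fst g g
    let q₁ := p01 ≫ pullback.snd g g
    let q₂ : X3 ⟶ X' := pullback.snd r2 g
    have e01 : q₀ ≫ g = q₁ ≫ g := by simp [q₀, q₁, pullback.condition]
    have e12 : q₁ ≫ g = q₂ ≫ g := by
      rw [← e01]
      exact (Category.assoc _ _ _).trans pullback.condition
    let P3 := pullback G.hom q₀
    let π3 := pullback.snd G.hom q₀
    let y₀ := π3 ≫ q₀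
    let y₁ := π3 ≫ q₁
    let y₂ := π3 ≫ q₂
    have d01 : y₀ ≫ g = y₁ ≫ g := by simp [y₀, y₁, e01]
    have d12 : y₁ ≫ g = y₂ ≫ g := by simp [y₁, y₂, e12]
    let w : Desc.Lifts (Over.mk G.hom) y₀ := ⟨pullback.fst G.hom q₀, pullback.condition⟩
    have huniv : (act y₁ y₂ d12 (act y₀ y₁ d01 w)).1 = (act y₀ y₂ (d01.trans d12) w).1 := by
      haveI := hf3
      let W3 : X3.Opens := r3 ⁻¹ᵁ U
      refine hom_ext_of_ff W3 π3 (MorphismProperty.pullback_snd _ _ G.prop) G.hom G.prop q₂ _ _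
        (act y₁ y₂ d12 (act y₀ y₁ d01 w)).2 (act y₀ y₂ (d01.trans d12) w).2 ?_
      let O3 := π3 ⁻¹ᵁ W3
      let o := O3.ι
      have hr : Set.range (o ≫ w.1) ⊆ Set.range V.ι := by
        rintro _ ⟨z, rfl⟩
        rw [Scheme.Opens.range_ι]
        show (o ≫ pullback.fst G.hom q₀ ≫ G.hom ≫ g) z ∈ U
        rw [pullback.condition_assoc, show q₀ ≫ g = r3 from Category.assoc _ _ _]
        exact z.2
      let t := IsOpenImmersion.lift V.ι _ hr
      have k01 : (o ≫ y₀) ≫ g = (o ≫ y₁) ≫ g := by simp [d01]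
      have k12 : (o ≫ y₁) ≫ g = (o ≫ y₂) ≫ g := by simp [d12]
      let v₀ : Desc.Lifts (Over.mk G.hom) (o ≫ y₀) := ⟨o ≫ w.1, by
        show (o ≫ w.1) ≫ G.hom = o ≫ y₀
        rw [Category.assoc]; exact congrArg (o ≫ ·) w.2⟩
      have n1 := nat o y₀ y₁ d01 k01 w v₀ rfl
      have n2 := nat o y₁ y₂ d12 k12 (act y₀ y₁ d01 w) (act _ _ k01 v₀) n1
      have n3 := nat o y₀ y₂ (d01.trans d12) (k01.trans k12) w v₀ rfl
      obtain ⟨t1, ht1, he1, hx1⟩ := spec _ _ k01 v₀ t (IsOpenImmersion.lift_fac _ _ _)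
      obtain ⟨t2, ht2, he2, hx2⟩ := spec _ _ k12 (act _ _ k01 v₀) t1 ht1
      obtain ⟨t3, ht3, he3, hx3⟩ := spec _ _ (k01.trans k12) v₀ t (IsOpenImmersion.lift_fac _ _ _)
      rw [← n2, ← n3, ← ht2, ← ht3, uniq t2 t3 (by rw [he2, he1, he3]) (by rw [hx2, hx3])]
    intro T x₀ x₁ x₂ h₀₁ h₁₂ v
    let kk : T ⟶ X3 := pullback.lift (pullback.lift x₀ x₁ h₀₁) x₂ (by simp [r2, h₀₁, h₁₂])
    let k : T ⟶ P3 := pullback.lift v.1 kk (by rw [show v.1 ≫ G.hom = x₀ from v.2]; simp [kk, q₀, p01])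
    have hx0 : x₀ = k ≫ y₀ := by simp [k, kk, y₀, π3, q₀, p01]
    have hx1 : x₁ = k ≫ y₁ := by simp [k, kk, y₁, π3, q₁, p01]
    have hx2 : x₂ = k ≫ y₂ := by simp [k, kk, y₂, π3, q₂]
    have hv : v.1 = k ≫ w.1 := (pullback.lift_fst _ _ _).symm
    clear_value k
    subst hx0 hx1 hx2
    have n1 := nat k y₀ y₁ d01 h₀₁ w v hv
    refine Subtype.ext ?_
    rw [nat k y₁ y₂ d12 h₁₂ (act y₀ y₁ d01 w) _ n1, huniv, ← nat k y₀ y₂ (d01.trans d12) (h₀₁.trans h₁₂) w v hv]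
  let D : Desc.SchDD g :=
    { obj := Over.mk G.hom
      φ := fun T x₀ x₁ h =>
        { toFun := act x₀ x₁ h
          invFun := act x₁ x₀ h.symm
          left_inv := fun v => (hcomp x₀ x₁ x₀ h h.symm v).trans (hself x₀ v)
          right_inv := fun v => (hcomp x₁ x₀ x₁ h.symm h v).trans (hself x₁ v) }
      φ_natural := nat
      φ_self := hself
      φ_comp := hcomp }
  haveI : IsFinite D.obj.hom := G.prop.1
  haveI : Etale D.obj.hom := G.prop.2
  obtain ⟨U₀, hU₀f, hU₀e, ⟨e⟩⟩ := S2903.result g D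
  -- compare with `E`
  let el : pullback g U₀.hom ⟶ G.left := e.hom.hom.left
  let ei : G.left ⟶ pullback g U₀.hom := e.inv.hom.left
  have hel : el ≫ G.hom = pullback.fst g U₀.hom := Over.w e.hom.hom
  have hei : ei ≫ pullback.fst g U₀.hom = G.hom := Over.w e.inv.hom
  have hie : ei ≫ el = 𝟙 _ := congrArg (fun F => (Desc.SchDD.Hom.hom F).left) e.inv_hom_id
  have hei' : el ≫ ei = 𝟙 _ := congrArg (fun F => (Desc.SchDD.Hom.hom F).left) e.hom_inv_id
  let O : U₀.left.Opens := U₀.hom ⁻¹ᵁ U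
  let pO := U₀.hom ∣_ U
  let Z1 := pullback pO gU
  have hz : (pullback.snd pO gU ≫ U'.ι) ≫ g = (pullback.fst pO gU ≫ O.ι) ≫ U₀.hom := by
    rw [Category.assoc, ← morphismRestrict_ι g U, ← pullback.condition_assoc, Category.assoc, morphismRestrict_ι]
  let z : Z1 ⟶ pullback g U₀.hom := pullback.lift _ _ hz
  have hrz : Set.range (z ≫ el) ⊆ Set.range V.ι := by
    rintro _ ⟨s, rfl⟩
    rw [Scheme.Opens.range_ι]
    show (z ≫ el ≫ G.hom) s ∈ U'
    rw [hel, pullback.lift_fst, Scheme.Hom.comp_apply]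
    exact (pullback.snd pO gU s).2
  let tz := IsOpenImmersion.lift V.ι _ hrz
  have htz : tz ≫ pV = pullback.snd pO gU := by
    rw [← cancel_mono U'.ι, Category.assoc, morphismRestrict_ι, IsOpenImmersion.lift_fac_assoc, Category.assoc, hel,
      pullback.lift_fst]
  let ψ : Z1 ⟶ E.left := tz ≫ eG
  have hψ : ψ ≫ E.hom = pullback.fst pO gU ≫ pO := by
    rw [Category.assoc, sq.w, reassoc_of% htz, pullback.condition]
  haveI : IsFinite gU := IsZariskiLocalAtTarget.restrict ‹IsFinite g› U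
  haveI : Surjective gU := IsZariskiLocalAtTarget.restrict ‹Surjective g› U
  have hgU := Purity.univSubmersive_of_universallyClosed gU
  have hcoc : ∀ {T : Scheme.{u}} (t₁ t₂ : T ⟶ Z1),
      t₁ ≫ pullback.fst pO gU = t₂ ≫ pullback.fst pO gU → t₁ ≫ ψ = t₂ ≫ ψ := by
    intro T t₁ t₂ ht
    let x₁ := (t₁ ≫ z) ≫ pullback.fst g U₀.hom
    let x₂ := (t₂ ≫ z) ≫ pullback.fst g U₀.hom
    have hsnd : (t₂ ≫ z) ≫ pullback.snd g U₀.hom = (t₁ ≫ z) ≫ pullback.snd g U₀.hom := by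
      simp [z, reassoc_of% ht]
    have hx : x₁ ≫ g = x₂ ≫ g := by
      simp only [x₁, x₂, Category.assoc, pullback.condition]
      simpa using congrArg (· ≫ U₀.hom) hsnd.symm
    let v₁ : Desc.Lifts (Over.mk G.hom) x₁ := ⟨(t₁ ≫ z) ≫ el, by simp [x₁, hel]⟩
    have h2 := e.hom.comm x₁ x₂ hx ⟨t₁ ≫ z, rfl⟩ v₁ rfl
    have hcan : ((Desc.canonicalDD g U₀).φ x₁ x₂ hx ⟨t₁ ≫ z, rfl⟩).1 = t₂ ≫ z := by
      apply pullback.hom_ext
      · exact (pullback.lift_fst _ _ _).trans rfl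
      · exact (pullback.lift_snd _ _ _).trans hsnd.symm
    have hact : (act x₁ x₂ hx v₁).1 = (t₂ ≫ z) ≫ el := h2.trans (congrArg (· ≫ el) hcan)
    obtain ⟨t', ht', he, -⟩ := spec x₁ x₂ hx v₁ (t₁ ≫ tz) (by
      rw [Category.assoc, IsOpenImmersion.lift_fac]; exact (Category.assoc _ _ _).symm)
    have : t' = t₂ ≫ tz := by
      rw [← cancel_mono V.ι, ht', hact, Category.assoc, Category.assoc, IsOpenImmersion.lift_fac]
    show t₁ ≫ tz ≫ eG = t₂ ≫ tz ≫ eG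
    rw [← Category.assoc, ← he, this, Category.assoc]
  obtain ⟨u, ⟨hu, hu'⟩, -⟩ := SubDescent.exists_desc_etale gU pO E.hom hgU ψ hψ hcoc
  -- the inverse
  haveI : Etale pO := IsZariskiLocalAtTarget.restrict hU₀e U
  let Z2 := pullback E.hom gU
  let j : Z2 ⟶ pullback g U₀.hom := i₀.inv ≫ V.ι ≫ ei
  have hj : (j ≫ pullback.snd g U₀.hom) ≫ U₀.hom = pullback.snd E.hom gU ≫ U'.ι ≫ g := by
    simp only [j, Category.assoc, ← pullback.condition, reassoc_of% hei]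
    rw [reassoc_of% hi₀']
  have hrj : Set.range (j ≫ pullback.snd g U₀.hom) ⊆ Set.range O.ι := by
    rintro _ ⟨s, rfl⟩
    rw [Scheme.Opens.range_ι]
    show U₀.hom ((j ≫ pullback.snd g U₀.hom) s) ∈ U
    rw [← Scheme.Hom.comp_apply, hj, Scheme.Hom.comp_apply]
    exact (pullback.snd E.hom gU s).2
  let ψ' : Z2 ⟶ O.toScheme := IsOpenImmersion.lift O.ι _ hrj
  have hψ' : ψ' ≫ pO = pullback.fst E.hom gU ≫ E.hom := by
    rw [pullback.condition, ← cancel_mono U.ι, Category.assoc, morphismRestrict_ι, IsOpenImmersion.lift_fac_assoc,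
      hj, Category.assoc, morphismRestrict_ι]
  have hcoc' : ∀ {T : Scheme.{u}} (s₁ s₂ : T ⟶ Z2),
      s₁ ≫ pullback.fst E.hom gU = s₂ ≫ pullback.fst E.hom gU → s₁ ≫ ψ' = s₂ ≫ ψ' := by
    intro T s₁ s₂ hs
    let x₁ := (s₁ ≫ i₀.inv) ≫ pV ≫ U'.ι
    let x₂ := (s₂ ≫ i₀.inv) ≫ pV ≫ U'.ι
    have hx : x₁ ≫ g = x₂ ≫ g := by
      simp only [x₁, x₂, Category.assoc, ← hi₀, Iso.inv_hom_id_assoc]
      rw [← morphismRestrict_ι g U, ← pullback.condition_assoc, reassoc_of% hs]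
    let v₁ : Desc.Lifts (Over.mk G.hom) x₁ := ⟨(s₁ ≫ i₀.inv) ≫ V.ι, by
      show ((s₁ ≫ i₀.inv) ≫ V.ι) ≫ G.hom = x₁
      simp only [x₁, pV, Category.assoc, morphismRestrict_ι]
      rfl⟩
    obtain ⟨t', ht', he, hx'⟩ := spec x₁ x₂ hx v₁ (s₁ ≫ i₀.inv) rfl
    have htt : t' = s₂ ≫ i₀.inv := uniq _ _ (by rw [he]; simp [eG, hs]) hx'
    let w₁ : Desc.Lifts (Desc.canonicalDD g U₀).obj x₁ := ⟨v₁.1 ≫ ei, by
      show (v₁.1 ≫ ei) ≫ pullback.fst g U₀.hom = x₁
      rw [Category.assoc, hei]; exact v₁.2⟩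
    have h2 : ((Desc.canonicalDD g U₀).φ x₁ x₂ hx w₁).1 = (act x₁ x₂ hx v₁).1 ≫ ei :=
      e.inv.comm x₁ x₂ hx v₁ w₁ rfl
    have h3 := congrArg (· ≫ pullback.snd g U₀.hom) h2
    simp only [← ht', htt] at h3
    rw [← cancel_mono O.ι]
    simp only [Category.assoc, ψ', IsOpenImmersion.lift_fac]
    simpa [Desc.canonicalDD, w₁, v₁, j] using h3
  obtain ⟨w, ⟨hw, hw'⟩, -⟩ := SubDescent.exists_desc_etale gU E.hom pO hgU ψ' hψ' hcoc'
  -- composites
  have huw : u ≫ w = 𝟙 _ := by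
    refine EtaleSections.eq_of_surjective pO (u ≫ w) (𝟙 _) (pullback.fst pO gU) ?_
      (by rw [Category.assoc, hw, hu, Category.id_comp])
    let σ : Z1 ⟶ Z2 := tz ≫ i₀.hom
    have hσ1 : σ ≫ pullback.fst E.hom gU = ψ := Category.assoc _ _ _
    rw [reassoc_of% hu', ← hσ1, Category.assoc, hw', Category.comp_id, ← cancel_mono O.ι, Category.assoc,
      IsOpenImmersion.lift_fac]
    simp only [σ, j, Category.assoc, Iso.hom_inv_id_assoc]
    rw [IsOpenImmersion.lift_fac_assoc]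
    simp [z, reassoc_of% hei']
  have hwu : w ≫ u = 𝟙 _ := by
    refine EtaleSections.eq_of_surjective E.hom (w ≫ u) (𝟙 _) (pullback.fst E.hom gU) ?_
      (by rw [Category.assoc, hu, hw, Category.id_comp])
    have hσ : ψ' ≫ pO = pullback.snd E.hom gU ≫ gU := hψ'.trans pullback.condition
    let σ : Z2 ⟶ Z1 := pullback.lift ψ' (pullback.snd E.hom gU) hσ
    have hσz : σ ≫ z = j := by
      apply pullback.hom_ext
      · rw [Category.assoc, pullback.lift_fst, pullback.lift_snd_assoc]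
        simp only [j, Category.assoc, hei]
        exact hi₀'.symm
      · rw [Category.assoc, pullback.lift_snd, pullback.lift_fst_assoc, IsOpenImmersion.lift_fac]
    have hσ2 : σ ≫ tz = i₀.inv := by
      rw [← cancel_mono V.ι, Category.assoc, IsOpenImmersion.lift_fac, reassoc_of% hσz]
      simp [j, hie]
    rw [reassoc_of% hw', Category.comp_id, ← pullback.lift_fst (f := pO) (g := gU) ψ' (pullback.snd E.hom gU) hσ,
      Category.assoc, hu']
    show σ ≫ tz ≫ eG = _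
    rw [reassoc_of% hσ2]
    simp [eG]
  let iso : O.toScheme ≅ E.left := ⟨u, w, huw, hwu⟩
  let U₁ : FEt.Cat X := MorphismProperty.Over.mk ⊤ U₀.hom ⟨hU₀f, hU₀e⟩
  exact ⟨U₁, ⟨MorphismProperty.Over.isoMk (pullbackRestrictIsoRestrict U₀.hom U ≪≫ iso) (by
    show ((pullbackRestrictIsoRestrict U₀.hom U).hom ≫ u) ≫ E.hom = pullback.snd U₀.hom U.ι
    rw [Category.assoc, hu]
    show _ ≫ U₀.hom ∣_ U = _
    rw [← hres U₀.hom U, Iso.hom_inv_id_assoc])⟩⟩

end Extend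

end Groth.Agent.PurGR
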