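import Groth.Agent.PurGR.Smooth
import Groth.Agent.FinComplete.Basic
import Groth.Agent.S5774

/-!
The local factors of finite étale algebras over finite base changes of an adically formally smooth
local algebra with one-dimensional closed fibre.
-/

set_option autoImplicit false
set_option linter.style.haveILetI false
set_option maxHeartbeats 1000000
set_option backward.isDefEq.respectTransparency false
universe u

open IsLocalRing TensorProduct

noncomputable section

namespace Groth.Agent.PurGR

attribute [local instance] Algebra.TensorProduct.rightAlgebra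

theorem finite_rightAlgebra (A B A'' : Type u) [CommRing A] [CommRing B] [CommRing A''] [Algebra A B]
    [Algebra A A''] [Module.Finite A A''] : Module.Finite B (A'' ⊗[A] B) := by
  haveI : Algebra.IsPushout A B A'' (A'' ⊗[A] B) := inferInstance
  exact Module.Finite.equiv (Algebra.IsPushout.equiv A B A'' (A'' ⊗[A] B)).toLinearEquiv

/-- Base change of a flat map along a field extension: fibre rings of base changes are flat over the fibre. -/
theorem flat_fibre_map (A B : Type u) [CommRing A] [CommRing B] [Algebra A B] (k K : Type u) [Field k] [Field K]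
    [Algebra A k] [Algebra A K] [Algebra k K] [IsScalarTower A k K] :
    (Algebra.TensorProduct.map (IsScalarTower.toAlgHom A k K) (AlgHom.id A B) :
      k ⊗[A] B →ₐ[A] K ⊗[A] B).toRingHom.Flat := by
  let F := k ⊗[A] B
  have h1 : (Algebra.TensorProduct.includeRight : F →ₐ[k] K ⊗[k] F).toRingHom.Flat := by
    haveI : Algebra.IsPushout k F K (K ⊗[k] F) := inferInstance
    haveI : Module.Flat F (K ⊗[k] F) :=
      Module.Flat.of_linearEquiv (Algebra.IsPushout.equiv k F K (K ⊗[k] F)).symm.toLinearEquiv
    exact RingHom.flat_algebraMap_iff.2 ‹_›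
  let e : K ⊗[k] F ≃ₐ[K] K ⊗[A] B := Algebra.TensorProduct.cancelBaseChange A k K K B
  have h2 : (Algebra.TensorProduct.map (IsScalarTower.toAlgHom A k K) (AlgHom.id A B) :
      k ⊗[A] B →ₐ[A] K ⊗[A] B).toRingHom = e.toRingEquiv.toRingHom.comp
        (Algebra.TensorProduct.includeRight : F →ₐ[k] K ⊗[k] F).toRingHom := by
    refine RingHom.ext fun z => ?_
    induction z using TensorProduct.induction_on with
    | zero => rw [map_zero, map_zero]
    | add x y hx hy => rw [map_add, map_add, hx, hy]
    | tmul c b =>
      show algebraMap k K c ⊗ₜ[A] b = e ((1 : K) ⊗ₜ[k] (c ⊗ₜ[A] b))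
      rw [Algebra.TensorProduct.cancelBaseChange_tmul, Algebra.smul_def, mul_one]
  rw [h2]
  exact h1.comp (RingHom.Flat.of_bijective e.toRingEquiv.bijective)

variable {A B : Type u} [CommRing A] [IsLocalRing A] [IsNoetherianRing A]
  [CommRing B] [IsLocalRing B] [IsNoetherianRing B] [Algebra A B] [IsLocalHom (algebraMap A B)]
  (hfs : CAlgX.IsAdicFormallySmooth A B (maximalIdeal B))
  (hdim : ringKrullDim (B ⧸ (maximalIdeal A).map (algebraMap A B)) = 1)
  {A'' : Type u} [CommRing A''] [Algebra A A''] [Module.Finite A A'']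
  {C : Type u} [CommRing C] [Algebra (A'' ⊗[A] B) C] [Module.Finite (A'' ⊗[A] B) C] [Algebra.Etale (A'' ⊗[A] B) C]
  [Algebra A'' C] [IsScalarTower A'' (A'' ⊗[A] B) C] [Algebra B C] [IsScalarTower B (A'' ⊗[A] B) C]

omit [IsNoetherianRing A] [IsNoetherianRing B] [IsLocalHom (algebraMap A B)] [IsLocalRing A] [IsLocalRing B]
  [Module.Finite A A''] [Module.Finite (A'' ⊗[A] B) C] [Algebra.Etale (A'' ⊗[A] B) C] in
theorem algebraMap_compat (a : A) : algebraMap B C (algebraMap A B a) = algebraMap A'' C (algebraMap A A'' a) := by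
  rw [IsScalarTower.algebraMap_apply B (A'' ⊗[A] B) C, IsScalarTower.algebraMap_apply A'' (A'' ⊗[A] B) C]
  congr 1
  show (1 : A'') ⊗ₜ[A] algebraMap A B a = algebraMap A A'' a ⊗ₜ[A] (1 : B)
  rw [Algebra.algebraMap_eq_smul_one, Algebra.algebraMap_eq_smul_one, TensorProduct.tmul_smul,
    TensorProduct.smul_tmul']

include hfs in
/-- The fibre over the residue field is a domain. -/
theorem fibre_facts (hdim : ringKrullDim (B ⧸ (maximalIdeal A).map (algebraMap A B)) = 1) :
    ∃ (_ : IsLocalRing ((A ⧸ maximalIdeal A) ⊗[A] B)) (_ : IsDomain ((A ⧸ maximalIdeal A) ⊗[A] B)),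
      (⊥ : Ideal ((A ⧸ maximalIdeal A) ⊗[A] B)) ≠ maximalIdeal ((A ⧸ maximalIdeal A) ⊗[A] B) := by
  haveI := isRegularLocalRing_fibre hfs
  haveI : IsDomain (B ⧸ (maximalIdeal A).map (algebraMap A B)) := RegLoc.isDomain _
  let e : (B ⧸ (maximalIdeal A).map (algebraMap A B)) ≃+* (A ⧸ maximalIdeal A) ⊗[A] B :=
    (Algebra.TensorProduct.quotIdealMapEquivTensorQuot B (maximalIdeal A)).toRingEquiv.trans
      (Algebra.TensorProduct.comm A B (A ⧸ maximalIdeal A)).toRingEquiv
  haveI := e.isLocalRing
  haveI : IsDomain ((A ⧸ maximalIdeal A) ⊗[A] B) := e.symm.toMulEquiv.isDomain _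
  refine ⟨inferInstance, inferInstance, fun h => ?_⟩
  have hf : IsField ((A ⧸ maximalIdeal A) ⊗[A] B) := isField_iff_maximalIdeal_eq.2 h.symm
  rw [ringKrullDim_eq_of_ringEquiv e, ringKrullDim_eq_zero_of_isField hf] at hdim
  exact zero_ne_one hdim

include hfs hdim in
/-- Below every maximal ideal of the algebra lies a non-maximal prime over the closed point of the base. -/
theorem exists_prime_lt (N : Ideal C) [N.IsMaximal] :
    ∃ P : Ideal C, P.IsPrime ∧ P < N ∧ (N.comap (algebraMap A'' C)).map (algebraMap A'' C) ≤ P ∧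
      (N.comap (algebraMap A'' C)).IsMaximal ∧ N.comap (algebraMap B C) = maximalIdeal B := by
  let D := A'' ⊗[A] B
  haveI : Module.Finite B D := finite_rightAlgebra A B A''
  haveI : Module.Finite B C := Module.Finite.trans D C
  haveI : Algebra.IsIntegral B C := Algebra.IsIntegral.of_finite B C
  haveI : Algebra.IsIntegral A A'' := Algebra.IsIntegral.of_finite A A''
  have hNB : N.comap (algebraMap B C) = maximalIdeal B :=
    eq_maximalIdeal (Ideal.isMaximal_comap_of_isIntegral_of_isMaximal N)
  let n := N.comap (algebraMap A'' C)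
  have hnA : n.comap (algebraMap A A'') = maximalIdeal A := by
    rw [← IsLocalRing.maximalIdeal_comap (algebraMap A B), ← hNB]
    ext a
    simp only [n, Ideal.mem_comap, ← algebraMap_compat (B := B) (A'' := A'') (C := C) a]
  haveI hn : n.IsMaximal := Ideal.isMaximal_of_isIntegral_of_isMaximal_comap (R := A) n
    (hnA ▸ maximalIdeal.isMaximal A)
  haveI : n.LiesOver (maximalIdeal A) := ⟨hnA.symm⟩
  letI : Field (A ⧸ maximalIdeal A) := Ideal.Quotient.field _
  letI : Field (A'' ⧸ n) := Ideal.Quotient.field _
  obtain ⟨_, _, hbot⟩ := fibre_facts hfs hdim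
  let k := A ⧸ maximalIdeal A
  let K := A'' ⧸ n
  let F := k ⊗[A] B
  let E := K ⊗[A] B
  let ψ : F →+* E := (Algebra.TensorProduct.map (IsScalarTower.toAlgHom A k K) (AlgHom.id A B)).toRingHom
  let φ : D →+* E := (Algebra.TensorProduct.map (Ideal.Quotient.mkₐ A n) (AlgHom.id A B)).toRingHom
  -- the point
  letI : Algebra A C := ((algebraMap A'' C).comp (algebraMap A A'')).toAlgebra
  let g₁ : K →ₐ[A] C ⧸ N :=
    { Ideal.quotientMap N (algebraMap A'' C) le_rfl with
      commutes' := fun a => rfl }
  let g₂ : B →ₐ[A] C ⧸ N :=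
    { (Ideal.Quotient.mk N).comp (algebraMap B C) with
      commutes' := fun a => congrArg (Ideal.Quotient.mk N) (algebraMap_compat (B := B) (A'' := A'') (C := C) a) }
  let χ : E →+* C ⧸ N := (Algebra.TensorProduct.lift g₁ g₂ fun _ _ => Commute.all _ _).toRingHom
  letI : Field (C ⧸ N) := Ideal.Quotient.field _
  let N' : Ideal E := RingHom.ker χ
  haveI : N'.IsPrime := RingHom.ker_isPrime χ
  have hφN : N'.comap φ = N.comap (algebraMap D C) := by
    have h : χ.comp φ = (Ideal.Quotient.mk N).comp (algebraMap D C) := by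
      refine RingHom.ext fun z => ?_
      induction z using TensorProduct.induction_on with
      | zero => rw [map_zero, map_zero]
      | add x y hx hy => rw [map_add, map_add, hx, hy]
      | tmul c b =>
        show g₁ (Ideal.Quotient.mk n c) * g₂ b = Ideal.Quotient.mk N (algebraMap D C (c ⊗ₜ[A] b))
        show Ideal.Quotient.mk N (algebraMap A'' C c) * Ideal.Quotient.mk N (algebraMap B C b) = _
        rw [← map_mul, IsScalarTower.algebraMap_apply A'' D C, IsScalarTower.algebraMap_apply B D C, ← map_mul]
        show Ideal.Quotient.mk N (algebraMap D C ((c ⊗ₜ[A] (1 : B)) * ((1 : A'') ⊗ₜ[A] b))) = _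
        rw [Algebra.TensorProduct.tmul_mul_tmul, mul_one, one_mul]
    rw [RingHom.comap_ker, h, ← RingHom.comap_ker, Ideal.mk_ker]
  have hψN : N'.comap ψ = maximalIdeal F := by
    let i : B →+* F := (Algebra.TensorProduct.includeRight : B →ₐ[A] F).toRingHom
    have hi : Function.Surjective i :=
      Algebra.TensorProduct.includeRight_surjective (R := A) (S := k) B Ideal.Quotient.mk_surjective
    refine Ideal.comap_injective_of_surjective i hi ?_
    haveI : IsLocalHom i := IsLocalHom.of_surjective i hi
    rw [IsLocalRing.maximalIdeal_comap, ← hNB]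
    ext b
    simp only [N', Ideal.mem_comap, RingHom.mem_ker]
    show χ (algebraMap k K 1 ⊗ₜ[A] b) = 0 ↔ _
    rw [map_one]
    show g₁ 1 * g₂ b = 0 ↔ _
    rw [map_one, one_mul]
    exact Ideal.Quotient.eq_zero_iff_mem
  letI := ψ.toAlgebra
  haveI : Module.Flat F E := flat_fibre_map A B k K
  haveI : N'.LiesOver (maximalIdeal F) := ⟨hψN.symm⟩
  obtain ⟨P', hP'N, hP', -⟩ := Ideal.exists_ideal_lt_liesOver_of_lt N'
    (lt_of_le_of_ne bot_le hbot : (⊥ : Ideal F) < maximalIdeal F)
  haveI := hP'
  let PD : Ideal D := P'.comap φ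
  have hφs : Function.Surjective φ :=
    TensorProduct.map_surjective (Ideal.Quotient.mkₐ_surjective A n) Function.surjective_id
  have hPDN : PD < N.comap (algebraMap D C) := by
    rw [← hφN]
    exact lt_of_le_of_ne (Ideal.comap_mono hP'N.le) fun h => hP'N.ne (Ideal.comap_injective_of_surjective φ hφs h)
  haveI : N.LiesOver (N.comap (algebraMap D C)) := ⟨rfl⟩
  obtain ⟨P, hPN, hP, hPo⟩ := Ideal.exists_ideal_lt_liesOver_of_lt N hPDN
  refine ⟨P, hP, hPN, Ideal.map_le_iff_le_comap.2 fun a ha => ?_, hn, hNB⟩
  have hPo' : P.comap (algebraMap D C) = PD := hPo.over.symm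
  rw [Ideal.mem_comap, IsScalarTower.algebraMap_apply A'' D C, ← Ideal.mem_comap, hPo']
  show φ (a ⊗ₜ[A] (1 : B)) ∈ P'
  show Ideal.Quotient.mk n a ⊗ₜ[A] (1 : B) ∈ P'
  rw [Ideal.Quotient.eq_zero_iff_mem.2 ha, TensorProduct.zero_tmul]
  exact zero_mem _

include hfs hdim in
/-- **The local factors**: adically formally smooth over the local rings of the base, with one-dimensional fibre. -/
theorem localFactor (N : Ideal C) [N.IsMaximal] :
    ∃ (_ : (N.comap (algebraMap A'' C)).IsMaximal),
      letI := (Localization.localRingHom (N.comap (algebraMap A'' C)) N (algebraMap A'' C) rfl).toAlgebra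
      IsLocalHom (algebraMap (Localization.AtPrime (N.comap (algebraMap A'' C))) (Localization.AtPrime N)) ∧
      CAlgX.IsAdicFormallySmooth (Localization.AtPrime (N.comap (algebraMap A'' C))) (Localization.AtPrime N)
        (maximalIdeal (Localization.AtPrime N)) ∧
      ringKrullDim (Localization.AtPrime N ⧸
        (maximalIdeal (Localization.AtPrime (N.comap (algebraMap A'' C)))).map
          (algebraMap (Localization.AtPrime (N.comap (algebraMap A'' C))) (Localization.AtPrime N))) = 1 := by
  obtain ⟨P, hP, hPN, hnP, hn, hNB⟩ := exists_prime_lt (A'' := A'') hfs hdim N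
  refine ⟨hn, ?_⟩
  let n := N.comap (algebraMap A'' C)
  let An := Localization.AtPrime n
  let CN := Localization.AtPrime N
  letI : Algebra An CN := (Localization.localRingHom n N (algebraMap A'' C) rfl).toAlgebra
  haveI : IsScalarTower A'' An CN := IsScalarTower.of_algebraMap_eq fun a => by
    show _ = Localization.localRingHom n N (algebraMap A'' C) rfl (algebraMap A'' An a)
    rw [Localization.localRingHom_to_map, ← IsScalarTower.algebraMap_apply]
  let D := A'' ⊗[A] B
  haveI : Module.Finite B D := finite_rightAlgebra A B A''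
  haveI : Module.Finite B C := Module.Finite.trans D C
  haveI : Algebra.IsIntegral B C := Algebra.IsIntegral.of_finite B C
  have hI : (maximalIdeal An).map (algebraMap An CN) = (n.map (algebraMap A'' C)).map (algebraMap C CN) := by
    rw [← Localization.AtPrime.map_eq_maximalIdeal, Ideal.map_map, Ideal.map_map,
      ← IsScalarTower.algebraMap_eq, ← IsScalarTower.algebraMap_eq]
  refine ⟨Localization.isLocalHom_localRingHom _ _ _ _, fs_base_localization n.primeCompl ?_, ?_⟩
  · refine fs_mono ?_ (fs_localization (B := C) N.primeCompl CN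
      (fs_etale (B := D) (C := C) (fs_baseChange (A' := A'') hfs)))
    rw [← Localization.AtPrime.map_eq_maximalIdeal]
    refine Ideal.map_mono ?_
    rw [Ideal.map_map, Ideal.map_le_iff_le_comap]
    intro b hb
    rw [Ideal.mem_comap]
    show algebraMap D C ((1 : A'') ⊗ₜ[A] b) ∈ N
    rw [← hNB, Ideal.mem_comap, IsScalarTower.algebraMap_apply B D C] at hb
    exact hb
  · rw [hI]
    let I := (n.map (algebraMap A'' C)).map (algebraMap C CN)
    have hmA : ∀ a ∈ maximalIdeal A, algebraMap B C (algebraMap A B a) ∈ n.map (algebraMap A'' C) := fun a ha => by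
      rw [algebraMap_compat (B := B) (A'' := A'') (C := C)]
      refine Ideal.mem_map_of_mem _ ?_
      show algebraMap A'' C (algebraMap A A'' a) ∈ N
      rw [← algebraMap_compat (B := B) (A'' := A'') (C := C), ← Ideal.mem_comap, hNB]
      exact map_nonunit (algebraMap A B) a ha
    apply le_antisymm
    · -- strictly monotone map to the primes of the closed fibre
      let c : PrimeSpectrum (CN ⧸ I) → PrimeSpectrum (B ⧸ (maximalIdeal A).map (algebraMap A B)) := fun p =>
        ⟨((p.asIdeal.comap ((Ideal.Quotient.mk I).comp (algebraMap C CN))).comap (algebraMap B C)).map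
            (Ideal.Quotient.mk _), by
          refine Ideal.map_isPrime_of_surjective Ideal.Quotient.mk_surjective ?_
          rw [Ideal.mk_ker, Ideal.map_le_iff_le_comap]
          intro a ha
          simp only [Ideal.mem_comap, RingHom.comp_apply]
          rw [Ideal.Quotient.eq_zero_iff_mem.2 (Ideal.mem_map_of_mem _ (hmA a ha))]
          exact zero_mem _⟩
      refine le_of_le_of_eq (Order.krullDim_le_of_strictMono c fun p q hpq => ?_) hdim
      have h1 : p.asIdeal.comap ((Ideal.Quotient.mk I).comp (algebraMap C CN)) <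
          q.asIdeal.comap ((Ideal.Quotient.mk I).comp (algebraMap C CN)) := by
        rw [← Ideal.comap_comap, ← Ideal.comap_comap]
        refine lt_of_le_of_ne (Ideal.comap_mono (Ideal.comap_mono hpq.le)) fun h => hpq.ne ?_
        refine PrimeSpectrum.ext (Ideal.comap_injective_of_surjective _ Ideal.Quotient.mk_surjective ?_)
        exact (IsLocalization.map_under N.primeCompl CN _).symm.trans
          ((congrArg (Ideal.map (algebraMap C CN)) h).trans (IsLocalization.map_under N.primeCompl CN _))
      have h2 := Ideal.IsIntegral.comap_lt_comap (R := B) h1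
      have hker : ∀ r : PrimeSpectrum (CN ⧸ I), (maximalIdeal A).map (algebraMap A B) ≤
          (r.asIdeal.comap ((Ideal.Quotient.mk I).comp (algebraMap C CN))).comap (algebraMap B C) := fun r => by
        rw [Ideal.map_le_iff_le_comap]
        intro a ha
        simp only [Ideal.mem_comap, RingHom.comp_apply]
        rw [Ideal.Quotient.eq_zero_iff_mem.2 (Ideal.mem_map_of_mem _ (hmA a ha))]
        exact zero_mem _
      refine lt_of_le_of_ne (Ideal.map_mono h2.le) fun h => h2.ne ?_
      have h3 := congrArg (Ideal.comap (Ideal.Quotient.mk ((maximalIdeal A).map (algebraMap A B))))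
        (show (c p).asIdeal = (c q).asIdeal from congrArg PrimeSpectrum.asIdeal h)
      simp only [c, Ideal.comap_map_of_surjective _ Ideal.Quotient.mk_surjective, ← RingHom.ker_eq_comap_bot,
        Ideal.mk_ker, sup_eq_left.2 (hker _)] at h3
      exact h3
    · -- two primes
      have hPI : I ≤ P.map (algebraMap C CN) := Ideal.map_mono hnP
      have hdis : Disjoint (N.primeCompl : Set C) (P : Set C) :=
        Set.disjoint_left.2 fun x hx hxP => hx (hPN.le hxP)
      haveI : (P.map (algebraMap C CN)).IsPrime := IsLocalization.isPrime_of_isPrime_disjoint N.primeCompl CN P hP hdis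
      have hlt : P.map (algebraMap C CN) < maximalIdeal CN := by
        refine lt_of_le_of_ne (le_maximalIdeal (‹(P.map (algebraMap C CN)).IsPrime›).ne_top) fun h => hPN.ne ?_
        rw [← IsLocalization.comap_map_of_isPrime_disjoint N.primeCompl CN hP hdis, h,
          Localization.AtPrime.comap_maximalIdeal]
      let p₁ : PrimeSpectrum (CN ⧸ I) := ⟨(P.map (algebraMap C CN)).map (Ideal.Quotient.mk I),
        Ideal.map_isPrime_of_surjective Ideal.Quotient.mk_surjective (by rwa [Ideal.mk_ker])⟩
      let p₂ : PrimeSpectrum (CN ⧸ I) := ⟨(maximalIdeal CN).map (Ideal.Quotient.mk I),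
        Ideal.map_isPrime_of_surjective Ideal.Quotient.mk_surjective (by rw [Ideal.mk_ker]; exact hPI.trans hlt.le)⟩
      have h12 : p₁ < p₂ := by
        refine lt_of_le_of_ne (Ideal.map_mono hlt.le) fun h => hlt.ne ?_
        have h3 := congrArg (Ideal.comap (Ideal.Quotient.mk I)) (congrArg PrimeSpectrum.asIdeal h)
        simp only [p₁, p₂, Ideal.comap_map_of_surjective _ Ideal.Quotient.mk_surjective, ← RingHom.ker_eq_comap_bot,
          Ideal.mk_ker, sup_eq_left.2 hPI, sup_eq_left.2 (hPI.trans hlt.le)] at h3
        exact h3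
      exact Order.LTSeries.length_le_krullDim (RelSeries.fromListIsChain [p₁, p₂] (by simp)
        (List.IsChain.cons_cons h12 (List.IsChain.singleton _)))

end Groth.Agent.PurGR
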