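import Groth.Agent.PurGR.Normal
import Groth.Agent.PurGR.Connected
import Groth.Agent.PurGR.Descent
import Groth.Agent.PureExtend.LocNoeth
import Groth.Agent.S0568
import Groth.Agent.Hensel.SemiLocalProd
import Groth.Agent.AdicBasics.Dimension
import Groth.Agent.SegreDim.Noether
import Groth.Agent.CTwoCpl.Core

/-!
**Purity for adically formally smooth local algebras with one-dimensional closed fibre**: no hypothesis on
the residue extension.
-/

set_option autoImplicit false
set_option linter.style.haveILetI false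
set_option maxHeartbeats 1000000
set_option backward.isDefEq.respectTransparency false
set_option backward.isDefEq.respectTransparency.types false
universe u

open IsLocalRing TensorProduct AlgebraicGeometry CategoryTheory Limits

noncomputable section

namespace Groth.Agent.PurGR

attribute [local instance] Algebra.TensorProduct.rightAlgebra

/-- The normalisation of the reduction of a complete Noetherian local ring: a finite algebra whose local rings
at maximal ideals are normal complete domains, surjective on spectra. -/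
theorem exists_normalization (A : Type u) [CommRing A] [IsLocalRing A] [IsNoetherianRing A]
    [IsAdicComplete (maximalIdeal A) A] :
    ∃ (A' : Type u) (_ : CommRing A') (_ : Algebra A A') (_ : Module.Finite A A'),
      Function.Surjective (PrimeSpectrum.comap (algebraMap A A')) ∧
      ∀ (N : Ideal A') [N.IsMaximal],
        IsDomain (Localization.AtPrime N) ∧ IsIntegrallyClosed (Localization.AtPrime N) ∧
        ∃ p ∈ minimalPrimes A, ringKrullDim (Localization.AtPrime N) = ringKrullDim (A ⧸ p) := by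
  classical
  haveI : Finite (minimalPrimes A) := (minimalPrimes.finite_of_isNoetherianRing A).to_subtype
  haveI hp : ∀ p : minimalPrimes A, p.1.IsPrime := fun p => p.2.1.1
  let C : minimalPrimes A → Type u := fun p => integralClosure (A ⧸ p.1) (FractionRing (A ⧸ p.1))
  letI : ∀ p, CommRing (C p) := fun p => inferInstanceAs (CommRing (integralClosure _ _))
  letI : ∀ p, Algebra (A ⧸ p.1) (C p) := fun p => inferInstanceAs (Algebra _ (integralClosure _ _))
  letI : ∀ p, Algebra A (C p) := fun p => ((algebraMap (A ⧸ p.1) (C p)).comp (Ideal.Quotient.mk p.1)).toAlgebra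
  haveI : ∀ p : minimalPrimes A, IsScalarTower A (A ⧸ p.1) (C p) := fun p => IsScalarTower.of_algebraMap_eq' rfl
  haveI hfinq : ∀ p : minimalPrimes A, Module.Finite (A ⧸ p.1) (C p) := fun p =>
    (S0568.result A).2 p.1 (FractionRing (A ⧸ p.1)) inferInstance
  haveI : ∀ p, Module.Finite A (C p) := fun p => Module.Finite.trans (A ⧸ p.1) (C p)
  haveI : ∀ p, IsDomain (C p) := fun p => inferInstanceAs (IsDomain (integralClosure _ _))
  haveI : ∀ p, IsLocalRing (C p) := fun p => FinComplete.isLocalRing_of_isDomain (R := A) (S := C p)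
  haveI : ∀ p : minimalPrimes A, IsIntegrallyClosed (C p) := fun p =>
    integralClosure.isIntegrallyClosedOfFiniteExtension (FractionRing (A ⧸ p.1))
  haveI : ∀ p, Algebra.IsIntegral A (C p) := fun p => Algebra.IsIntegral.of_finite A (C p)
  haveI : ∀ p : minimalPrimes A, Algebra.IsIntegral (A ⧸ p.1) (C p) := fun p => Algebra.IsIntegral.of_finite _ (C p)
  refine ⟨∀ p, C p, inferInstance, inferInstance, inferInstance, fun q => ?_, fun N hN => ?_⟩
  · obtain ⟨p, hpm, hpq⟩ := Ideal.exists_minimalPrimes_le (bot_le (a := q.asIdeal))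
    let i : minimalPrimes A := ⟨p, hpm⟩
    have hinj : RingHom.ker (algebraMap A (C i)) ≤ q.asIdeal := fun a ha => hpq (by
      have h : algebraMap (A ⧸ p) (C i) (Ideal.Quotient.mk p a) = 0 := ha
      exact Ideal.Quotient.eq_zero_iff_mem.1
        ((map_eq_zero_iff (algebraMap (A ⧸ p) (C i)) (fun x y hxy => IsFractionRing.injective (A ⧸ p) (FractionRing (A ⧸ p)) (congrArg Subtype.val hxy))).1 h))
    obtain ⟨Q, -, hQ, hQq⟩ := Ideal.exists_ideal_over_prime_of_isIntegral q.asIdeal (⊥ : Ideal (C i))
      (by rwa [← RingHom.ker_eq_comap_bot])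
    refine ⟨⟨Q.comap (Pi.evalRingHom C i), inferInstance⟩, PrimeSpectrum.ext ?_⟩
    show (Q.comap (Pi.evalRingHom C i)).comap (algebraMap A (∀ p, C p)) = q.asIdeal
    rw [Ideal.comap_comap]
    exact hQq
  · -- which factor
    obtain ⟨i, hi⟩ : ∃ i : minimalPrimes A, (Pi.single i 1 : ∀ p, C p) ∉ N := by
      by_contra hc
      push Not at hc
      haveI := Fintype.ofFinite (minimalPrimes A)
      apply hN.ne_top
      rw [Ideal.eq_top_iff_one, show (1 : ∀ p, C p) = ∑ p, Pi.single p 1 from (Finset.univ_sum_single _).symm]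
      exact Ideal.sum_mem _ fun p _ => hc p
    let ev := Pi.evalRingHom C i
    have hev : Function.Surjective ev := fun c => ⟨Pi.single i c, Pi.single_eq_same i c⟩
    have hkN : RingHom.ker ev ≤ N := fun x hx => by
      have h : Pi.single i 1 * x = 0 := funext fun j => by
        rcases eq_or_ne j i with rfl | h
        · simpa [ev] using hx
        · simp [h]
      exact (hN.isPrime.mem_or_mem (h ▸ zero_mem N)).resolve_left hi
    have hNC : N = (maximalIdeal (C i)).comap ev := by
      have h : (N.map ev).IsMaximal := Ideal.IsMaximal.map_of_surjective_of_ker_le hev hkN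
      rw [← eq_maximalIdeal h, Ideal.comap_map_of_surjective _ hev, ← RingHom.ker_eq_comap_bot, sup_eq_left.2 hkN]
    letI : Algebra (∀ p, C p) (C i) := ev.toAlgebra
    haveI : IsLocalization.AtPrime (C i) N := by
      constructor
      constructor
      · rintro ⟨s, hs⟩
        by_contra hu
        exact hs (hNC ▸ hu)
      · intro c
        exact ⟨(Pi.single i c, 1), by simp [ev, RingHom.algebraMap_toAlgebra]⟩
      · intro x y hxy
        refine ⟨⟨Pi.single i 1, hi⟩, funext fun j => ?_⟩
        rcases eq_or_ne j i with rfl | h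
        · simpa [ev, RingHom.algebraMap_toAlgebra] using hxy
        · simp [h]
    let e := (IsLocalization.algEquiv N.primeCompl (Localization.AtPrime N) (C i)).toRingEquiv
    refine ⟨e.toMulEquiv.isDomain (C i), IsIntegrallyClosed.of_equiv e.symm, i.1, i.2, ?_⟩
    rw [ringKrullDim_eq_of_ringEquiv e]
    exact (SegreDim.ringKrullDim_eq_of_injective_integral (A := A ⧸ i.1)
      (fun x y hxy => IsFractionRing.injective (A ⧸ i.1) (FractionRing (A ⧸ i.1)) (congrArg Subtype.val hxy))).symm

/-- Base change of a pullback square of a fibre product. -/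
theorem isPullback_fibreProd {S X1 X2 T Z : Scheme.{u}} {a1 : S ⟶ T} {S2 : Scheme.{u}} {a2 : S2 ⟶ T} {p : Z ⟶ T}
    {b1 : X1 ⟶ S} {q1 : X1 ⟶ Z} {b2 : X2 ⟶ S2} {q2 : X2 ⟶ Z} (h1 : IsPullback b1 q1 a1 p) (h2 : IsPullback b2 q2 a2 p) :
    IsPullback (pullback.lift (pullback.fst q1 q2 ≫ b1) (pullback.snd q1 q2 ≫ b2) (by
      rw [Category.assoc, Category.assoc, h1.w, h2.w, pullback.condition_assoc]) : pullback q1 q2 ⟶ pullback a1 a2)
      (pullback.fst q1 q2 ≫ q1) (pullback.fst a1 a2 ≫ a1) p := by
  have hw : ∀ (W : Scheme.{u}) (s : W ⟶ pullback a1 a2) (t : W ⟶ Z), s ≫ pullback.fst a1 a2 ≫ a1 = t ≫ p →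
      ((s ≫ pullback.fst a1 a2) ≫ a1 = t ≫ p ∧ (s ≫ pullback.snd a1 a2) ≫ a2 = t ≫ p) := fun W s t h => by
    rw [Category.assoc, Category.assoc, ← pullback.condition]
    exact ⟨h, h⟩
  refine IsPullback.of_isLimit' ⟨by rw [pullback.lift_fst_assoc, Category.assoc, Category.assoc, h1.w]⟩
    (PullbackCone.IsLimit.mk _ (fun s => pullback.lift (h1.lift _ s.snd (hw _ s.fst s.snd s.condition).1)
      (h2.lift _ s.snd (hw _ s.fst s.snd s.condition).2) (by rw [h1.lift_snd, h2.lift_snd])) (fun s => ?_)
      (fun s => by rw [pullback.lift_fst_assoc, h1.lift_snd]) (fun s m hm₁ hm₂ => ?_))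
  · apply pullback.hom_ext
    · rw [Category.assoc, pullback.lift_fst, pullback.lift_fst_assoc, h1.lift_fst]
    · rw [Category.assoc, pullback.lift_snd, pullback.lift_snd_assoc, h2.lift_fst]
  · apply pullback.hom_ext
    · rw [pullback.lift_fst]
      refine h1.hom_ext ?_ ?_
      · rw [h1.lift_fst, ← hm₁]; simp
      · rw [h1.lift_snd, Category.assoc, hm₂]
    · rw [pullback.lift_snd]
      refine h2.hom_ext ?_ ?_
      · rw [h2.lift_fst, ← hm₁]; simp
      · rw [h2.lift_snd, Category.assoc, ← pullback.condition, hm₂]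

variable {A B : Type u} [CommRing A] [CommRing B] [IsLocalRing A] [IsLocalRing B] [IsNoetherianRing A]
  [IsNoetherianRing B] [Algebra A B] [IsLocalHom (algebraMap A B)]
  (hfs : CAlgX.IsAdicFormallySmooth A B (maximalIdeal B))
  (hdim : ringKrullDim (B ⧸ (maximalIdeal A).map (algebraMap A B)) = 1)

omit [IsLocalRing A] [IsLocalRing B] [IsNoetherianRing A] [IsNoetherianRing B] [IsLocalHom (algebraMap A B)] in
/-- The square of a base change of spectra. -/
theorem isPullback_tensor (A'' : Type u) [CommRing A''] [Algebra A A''] :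
    IsPullback (Spec.map (CommRingCat.ofHom (algebraMap A'' (A'' ⊗[A] B))))
      (Spec.map (CommRingCat.ofHom (algebraMap B (A'' ⊗[A] B))))
      (Spec.map (CommRingCat.ofHom (algebraMap A A''))) (Spec.map (CommRingCat.ofHom (algebraMap A B))) :=
  isPullback_SpecMap_of_isPushout _ _ _ _ (CommRingCat.isPushout_tensorProduct A A'' B)

variable [IsAdicComplete (maximalIdeal B) B]

include hfs hdim in
/-- Full faithfulness over base changes of finite morphisms. -/
theorem full_faithful_baseChange {S X1 : Scheme.{u}} (a : S ⟶ Spec (CommRingCat.of A)) [IsFinite a]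
    (q : X1 ⟶ Spec (CommRingCat.of B)) (b : X1 ⟶ S)
    (h : IsPullback b q a (Spec.map (CommRingCat.ofHom (algebraMap A B)))) :
    (FEt.restrict (q ⁻¹ᵁ FEt.puncturedSpec B).ι).Full ∧ (FEt.restrict (q ⁻¹ᵁ FEt.puncturedSpec B).ι).Faithful := by
  haveI : IsAffine S := isAffine_of_isAffineHom a
  let φ : CommRingCat.of A ⟶ Γ(S, ⊤) := Spec.preimage (S.isoSpec.inv ≫ a)
  have hφ : Spec.map φ = S.isoSpec.inv ≫ a := Spec.map_preimage _
  letI : Algebra A Γ(S, ⊤) := φ.hom.toAlgebra
  haveI : IsFinite (Spec.map φ) := hφ ▸ inferInstance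
  haveI : Module.Finite A Γ(S, ⊤) := RingHom.finite_algebraMap.1 ((IsFinite.SpecMap_iff φ).1 ‹_›)
  obtain ⟨hF, hFa⟩ := full_faithful_punct hfs hdim Γ(S, ⊤)
  let q' := Spec.map (CommRingCat.ofHom (algebraMap B (Γ(S, ⊤) ⊗[A] B)))
  have h' := isPullback_tensor (A := A) (B := B) Γ(S, ⊤)
  let e : X1 ≅ Spec (CommRingCat.of (Γ(S, ⊤) ⊗[A] B)) :=
    (h.of_iso (Iso.refl _) S.isoSpec (Iso.refl _) (Iso.refl _) (fst' := b ≫ S.isoSpec.hom) (snd' := q)
      (f' := Spec.map φ) (g' := Spec.map (CommRingCat.ofHom (algebraMap A B)))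
      (by simp) (by simp) (by simp [hφ]) (by simp)).isoIsPullback _ _ h'
  have he : e.hom ≫ q' = q := IsPullback.isoIsPullback_hom_snd _ _ _ _
  have hU : e.hom ⁻¹ᵁ (q' ⁻¹ᵁ FEt.puncturedSpec B) = q ⁻¹ᵁ FEt.puncturedSpec B := by
    rw [← Scheme.Hom.comp_preimage, he]
  rw [← hU]
  haveI := hF
  haveI := hFa
  haveI := LefEssSurj.restrict_isEquivalence_of_isIso e.hom
  haveI : IsIso (e.hom ∣_ (q' ⁻¹ᵁ FEt.puncturedSpec B)) := inferInstance
  haveI := LefEssSurj.restrict_isEquivalence_of_isIso (e.hom ∣_ (q' ⁻¹ᵁ FEt.puncturedSpec B))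
  let F := FEt.restrict e.hom
  let U1 := e.hom ⁻¹ᵁ (q' ⁻¹ᵁ FEt.puncturedSpec B)
  let U2 := q' ⁻¹ᵁ FEt.puncturedSpec B
  let η : F ⋙ FEt.restrict U1.ι ≅ FEt.restrict U2.ι ⋙ FEt.restrict (e.hom ∣_ U2) :=
    (LefEssSurj.restrictComp U1.ι e.hom _ rfl).symm ≪≫ LefEssSurj.restrictComp (e.hom ∣_ U2) U2.ι _ (morphismRestrict_ι _ _)
  haveI : (F ⋙ FEt.restrict U1.ι).Full := Functor.Full.of_iso η.symm
  haveI : (F ⋙ FEt.restrict U1.ι).Faithful := Functor.Faithful.of_iso η.symm
  let E := F.asEquivalence
  let ζ : E.inverse ⋙ (F ⋙ FEt.restrict U1.ι) ≅ FEt.restrict U1.ι :=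
    (Functor.associator _ _ _).symm ≪≫ Functor.isoWhiskerRight E.counitIso _ ≪≫ Functor.leftUnitor _
  exact ⟨Functor.Full.of_iso ζ, Functor.Faithful.of_iso ζ⟩

variable [IsAdicComplete (maximalIdeal A) A]

/-- **Purity, complete case.** -/
theorem purityUpTo : ∀ n : ℕ, PurityUpTo.{u} n := by
  intro n
  induction n using Nat.strong_induction_on with
  | _ n IH =>
  intro A B _ _ _ _ _ _ _ _ _ _ hfs hdim h1 hn
  obtain ⟨A', _, _, _, hsurj, hA'⟩ := exists_normalization A
  haveI : IsNoetherianRing A' := IsNoetherianRing.of_finite A A'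
  let D := A' ⊗[A] B
  haveI : Module.Finite B D := finite_rightAlgebra A B A'
  haveI : IsNoetherianRing D := IsNoetherianRing.of_finite B D
  haveI : Algebra.IsIntegral B D := Algebra.IsIntegral.of_finite B D
  let p := Spec.map (CommRingCat.ofHom (algebraMap A B))
  let a := Spec.map (CommRingCat.ofHom (algebraMap A A'))
  let g := Spec.map (CommRingCat.ofHom (algebraMap B D))
  have hsq := isPullback_tensor (A := A) (B := B) A'
  haveI : IsFinite a := (IsFinite.SpecMap_iff _).2 (RingHom.finite_algebraMap.2 inferInstance)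
  haveI : Surjective a := ⟨hsurj⟩
  haveI : IsFinite g := MorphismProperty.of_isPullback (P := @IsFinite) hsq ‹_›
  haveI : Surjective g := MorphismProperty.of_isPullback (P := @Surjective) hsq ‹_›
  let U := FEt.puncturedSpec B
  -- extension over the normalisation
  have hgood : ∀ x : Spec (CommRingCat.of D), x ∉ g ⁻¹ᵁ U →
      (2 : ℕ∞) ≤ LocCoh.depth ((Spec (CommRingCat.of D)).presheaf.stalk x) ((Spec (CommRingCat.of D)).presheaf.stalk x) ∧
        FEt.PurityHolds ((Spec (CommRingCat.of D)).presheaf.stalk x) := fun x hx => by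
    have hxB : x.asIdeal.comap (algebraMap B D) = maximalIdeal B :=
      congrArg PrimeSpectrum.asIdeal (not_not.1 (show ¬ (g x ≠ closedPoint B) from hx))
    haveI : (x.asIdeal).IsMaximal := Ideal.isMaximal_of_isIntegral_of_isMaximal_comap (R := B) _
      (hxB ▸ maximalIdeal.isMaximal B)
    obtain ⟨hn', hloc, hfsN, hdimN⟩ := localFactor (A'' := A') (C := D) hfs hdim x.asIdeal
    let m := x.asIdeal.comap (algebraMap A' D)
    haveI := hn'
    letI := (Localization.localRingHom m x.asIdeal (algebraMap A' D) rfl).toAlgebra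
    haveI := hloc
    obtain ⟨hdom, hic, p₀, hp₀, hdimp⟩ := hA' m
    haveI := hdom
    haveI := hic
    haveI : IsNoetherianRing (Localization.AtPrime x.asIdeal) :=
      (FinComplete.localization_complete (R := B) (S := D) ⟨x.asIdeal, inferInstance⟩).1
    haveI : IsAdicComplete (maximalIdeal (Localization.AtPrime x.asIdeal)) (Localization.AtPrime x.asIdeal) :=
      (FinComplete.localization_complete (R := B) (S := D) ⟨x.asIdeal, inferInstance⟩).2
    haveI : IsNoetherianRing (Localization.AtPrime m) :=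
      (FinComplete.localization_complete (R := A) (S := A') ⟨m, hn'⟩).1
    haveI : IsAdicComplete (maximalIdeal (Localization.AtPrime m)) (Localization.AtPrime m) :=
      (FinComplete.localization_complete (R := A) (S := A') ⟨m, hn'⟩).2
    haveI := hp₀.1.1
    have h1' : (1 : WithBot ℕ∞) ≤ ringKrullDim (Localization.AtPrime m) := by
      rw [hdimp]
      haveI : IsLocalRing (A ⧸ p₀) := .of_surjective' _ Ideal.Quotient.mk_surjective
      obtain ⟨k, hk⟩ := SerreReg.exists_dim_nat (A ⧸ p₀)
      rw [hk]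
      refine Nat.one_le_cast.2 (Nat.one_le_iff_ne_zero.2 fun h0 => ?_)
      subst h0
      haveI : Ring.KrullDimLE 0 (A ⧸ p₀) := Ring.krullDimLE_iff.2 (by rw [hk])
      have hp₀m : p₀.IsMaximal := Ideal.Quotient.maximal_of_isField _ (Ring.KrullDimLE.isField_of_isDomain)
      have hmin : maximalIdeal A ∈ minimalPrimes A := eq_maximalIdeal hp₀m ▸ hp₀
      haveI : Subsingleton (PrimeSpectrum A) := ⟨fun u v => by
        have key : ∀ w : PrimeSpectrum A, w.asIdeal = maximalIdeal A := fun w =>
          le_antisymm (le_maximalIdeal w.2.ne_top) (hmin.2 ⟨w.2, bot_le⟩ (le_maximalIdeal w.2.ne_top))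
        exact PrimeSpectrum.ext ((key u).trans (key v).symm)⟩
      exact absurd (h1.trans Order.krullDim_nonpos_of_subsingleton) (by norm_num)
    have hn'' : ringKrullDim (Localization.AtPrime m) ≤ (n : WithBot ℕ∞) :=
      hdimp.trans_le ((ringKrullDim_le_of_surjective _ Ideal.Quotient.mk_surjective).trans hn)
    have hd : (2 : ℕ∞) ≤ LocCoh.depth (Localization.AtPrime x.asIdeal) (Localization.AtPrime x.asIdeal) :=
      depth_succ_le hfsN hdimN (a := 1) (NormalScheme.one_le_depth _ fun h0 => by
        rw [h0] at h1'; exact absurd h1' (by norm_num))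
    let e : Localization.AtPrime x.asIdeal ≃+* ((Spec (CommRingCat.of D)).presheaf.stalk x) :=
      (StructureSheaf.stalkIso D x).toRingEquiv
    exact ⟨(FlatDepth.depth_ringEquiv e).symm ▸ hd,
      LefEssSurj.purityHolds_congr e.symm (purityHolds_normal hfsN hdimN IH h1' hn'')⟩
  haveI := PureExtend.essSurj_restrict_locallyNoetherian (g ⁻¹ᵁ U) (fun x hx => (hgood x hx).1)
    fun V x hx => LefEssSurj.purityHolds_congr (asIso (V.ι.stalkMap x)).symm.commRingCatIsoToRingEquiv (hgood _ hx).2
  refine LefEssSurj.purityHolds_of_extends fun E => ?_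
  refine extends_of_finite_surjective g U E
    ⟨_, ⟨(FEt.restrict (g ⁻¹ᵁ U).ι).objObjPreimageIso _⟩⟩ (full_faithful_baseChange hfs hdim a g _ hsq).2 ?_ ?_
  · exact full_faithful_baseChange hfs hdim (pullback.fst a a ≫ a) (pullback.fst g g ≫ g) _
      (isPullback_fibreProd hsq hsq)
  · exact (full_faithful_baseChange hfs hdim (pullback.fst (pullback.fst a a ≫ a) a ≫ pullback.fst a a ≫ a)
      (pullback.fst (pullback.fst g g ≫ g) g ≫ pullback.fst g g ≫ g) _
      (isPullback_fibreProd (isPullback_fibreProd hsq hsq) hsq)).2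

omit [IsAdicComplete (maximalIdeal A) A] [IsAdicComplete (maximalIdeal B) B] in
include hfs hdim in
/-- **Purity for adically formally smooth algebras with one-dimensional fibre over a base of positive depth.** -/
theorem purityHolds_fibre_dim_one (hA : (1 : ℕ∞) ≤ LocCoh.depth A A) : FEt.PurityHolds B := by
  let A' := AdicCompletion (maximalIdeal A) A
  let B' := AdicCompletion (maximalIdeal B) B
  haveI : IsNoetherianRing A' := AdicBasics.isNoetherianRing_completion A
  haveI : IsNoetherianRing B' := AdicBasics.isNoetherianRing_completion B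
  haveI : IsAdicComplete (maximalIdeal A') A' := by
    rw [AdicCompletion.maximalIdeal_eq_map, IsAdicComplete.map_algebraMap_iff]
    exact AdicCompletion.isAdicComplete (IsNoetherian.noetherian _)
  haveI : IsAdicComplete (maximalIdeal B') B' := by
    rw [AdicCompletion.maximalIdeal_eq_map, IsAdicComplete.map_algebraMap_iff]
    exact AdicCompletion.isAdicComplete (IsNoetherian.noetherian _)
  obtain ⟨i1, i2, i3, hfs'⟩ := fs_completion hfs
  letI := i1
  haveI := i2
  haveI := i3
  haveI := GRingCpl.flat_of_adicFormallySmooth hfs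
  haveI := GRingCpl.flat_of_adicFormallySmooth hfs'
  obtain ⟨dA, hdA⟩ := SerreReg.exists_dim_nat A
  have hdim' : ringKrullDim (B' ⧸ (maximalIdeal A').map (algebraMap A' B')) = 1 := by
    have h := TorCI.ringKrullDim_flat_local A' B'
    rw [AdicBasics.ringKrullDim_completion, AdicBasics.ringKrullDim_completion, TorCI.ringKrullDim_flat_local A B,
      hdim, hdA] at h
    haveI := isRegularLocalRing_fibre hfs'
    obtain ⟨c, hc⟩ := SerreReg.exists_dim (B' ⧸ (maximalIdeal A').map (algebraMap A' B'))
    rw [hc] at h ⊢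
    norm_cast at h ⊢
    omega
  have h2 : (2 : ℕ∞) ≤ LocCoh.depth B B := depth_succ_le hfs hdim hA
  have hψ : maximalIdeal B' ≤ ((maximalIdeal B).map (algebraMap B B')).radical := by
    rw [AdicCompletion.maximalIdeal_eq_map]; exact Ideal.le_radical
  refine LefEssSurj.purityHolds_of_flat (algebraMap B B') (RingHom.flat_algebraMap_iff.2 inferInstance) hψ h2
    (purityUpTo dA A' B' hfs' hdim' ?_ ?_)
  · rw [AdicBasics.ringKrullDim_completion, hdA]
    refine Nat.one_le_cast.2 (Nat.one_le_iff_ne_zero.2 fun h0 => ?_)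
    subst h0
    haveI : Ring.KrullDimLE 0 A := Ring.krullDimLE_iff.2 (by rw [hdA])
    obtain ⟨a, ha, hreg⟩ := (Goren.depth_pos_iff_exists A).1 (Order.one_le_iff_pos.1 hA)
    exact (Set.disjoint_left.1 (Ideal.disjoint_nonZeroDivisors_of_mem_minimalPrimes
      (Ideal.mem_minimalPrimes_of_krullDimLE_zero (maximalIdeal A))) ha) (mem_nonZeroDivisors_iff_right.2 fun x hx => hreg (by simpa [mul_comm] using hx))
  · rw [AdicBasics.ringKrullDim_completion, hdA]

end Groth.Agent.PurGR
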