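import Groth.Agent.PurGR.Smooth
import Groth.Agent.LefEssSurj.Extends
import Groth.Agent.LefEssSurj.FlatFibre
import Groth.Agent.RamSam.Normal
import Groth.Agent.FlatDepth.Serre
import Groth.Agent.S11564
import Groth.Agent.S0247
import Groth.Agent.TorCI.CIFlat
import Groth.Agent.ReflLoc.Normal
import Groth.Agent.NormalScheme.Flat
import Groth.Agent.SerreReg.CM

/-!
Purity over a normal complete base: the inductive step by cutting with one parameter.
-/

set_option autoImplicit false
set_option linter.style.haveILetI false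
set_option maxHeartbeats 1000000
set_option backward.isDefEq.respectTransparency false
set_option backward.isDefEq.respectTransparency.types false
universe u

open IsLocalRing TensorProduct AlgebraicGeometry CategoryTheory Limits

noncomputable section

namespace Groth.Agent.PurGR

/-- Purity for all adically formally smooth algebras with one-dimensional fibre over complete bases of
dimension between `1` and `n`. -/
def PurityUpTo (n : ℕ) : Prop :=
  ∀ (A B : Type u) [CommRing A] [CommRing B] [IsLocalRing A] [IsLocalRing B] [IsNoetherianRing A]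
    [IsNoetherianRing B] [IsAdicComplete (maximalIdeal A) A] [IsAdicComplete (maximalIdeal B) B] [Algebra A B]
    [IsLocalHom (algebraMap A B)],
    CAlgX.IsAdicFormallySmooth A B (maximalIdeal B) →
    ringKrullDim (B ⧸ (maximalIdeal A).map (algebraMap A B)) = 1 →
    (1 : WithBot ℕ∞) ≤ ringKrullDim A → ringKrullDim A ≤ (n : WithBot ℕ∞) → FEt.PurityHolds B

variable {A B : Type u} [CommRing A] [CommRing B] [IsLocalRing A] [IsLocalRing B] [IsNoetherianRing A]
  [IsNoetherianRing B] [Algebra A B] [IsLocalHom (algebraMap A B)]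
  (hfs : CAlgX.IsAdicFormallySmooth A B (maximalIdeal B))
  (hdim : ringKrullDim (B ⧸ (maximalIdeal A).map (algebraMap A B)) = 1)

include hfs hdim in
/-- Depth goes up by one along the fibre. -/
theorem depth_succ_le {a : ℕ∞} (ha : a ≤ LocCoh.depth A A) : a + 1 ≤ LocCoh.depth B B := by
  haveI := GRingCpl.flat_of_adicFormallySmooth hfs
  haveI := isRegularLocalRing_fibre hfs
  haveI : IsDomain (B ⧸ (maximalIdeal A).map (algebraMap A B)) := RegLoc.isDomain _
  exact RamSam.depth_ge_add_one ha (NormalScheme.one_le_depth _ (by rw [hdim]; exact one_ne_zero))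

include hfs in
/-- Regular base gives regular total ring. -/
theorem isRegularLocalRing_of_regular [IsRegularLocalRing A] : IsRegularLocalRing B := by
  haveI := GRingCpl.flat_of_adicFormallySmooth hfs
  haveI := isRegularLocalRing_fibre hfs
  refine IsRegularLocalRing.of_spanFinrank_maximalIdeal_le _ ?_
  rw [TorCI.ringKrullDim_flat_local A B, ← IsRegularLocalRing.spanFinrank_maximalIdeal (R := A),
    ← IsRegularLocalRing.spanFinrank_maximalIdeal (R := B ⧸ (maximalIdeal A).map (algebraMap A B)),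
    spanFinrank_maximalIdeal_eq_finrank_cotangentSpace, spanFinrank_maximalIdeal_eq_finrank_cotangentSpace,
    spanFinrank_maximalIdeal_eq_finrank_cotangentSpace, S11564.result A B, Nat.cast_add, add_comm]

/-- Quotient of the base. -/
theorem fs_quotient {A B : Type u} [CommRing A] [CommRing B] [Algebra A B] (I : Ideal A) (K : Ideal B)
    (hK : K = I.map (algebraMap A B)) [Algebra (A ⧸ I) (B ⧸ K)] [IsScalarTower A (A ⧸ I) (B ⧸ K)] {b : Ideal B}
    (hfs : CAlgX.IsAdicFormallySmooth A B b) :
    CAlgX.IsAdicFormallySmooth (A ⧸ I) (B ⧸ K) (b.map (Ideal.Quotient.mk K)) := by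
  intro D _ _ J hJ u hu
  letI : Algebra A D := ((algebraMap (A ⧸ I) D).comp (Ideal.Quotient.mk I)).toAlgebra
  haveI : IsScalarTower A (A ⧸ I) D := IsScalarTower.of_algebraMap_eq' rfl
  obtain ⟨k, hk⟩ := hu
  obtain ⟨v, hv⟩ := hfs D J hJ ((u.restrictScalars A).comp (Ideal.Quotient.mkₐ A K))
    ⟨k, fun x hx => hk _ (by rw [← Ideal.map_pow]; exact Ideal.mem_map_of_mem _ hx)⟩
  have hvK : ∀ x ∈ K, v x = 0 := fun x hx => by
    have hle : K ≤ RingHom.ker v.toRingHom := hK ▸ Ideal.map_le_iff_le_comap.mpr fun r hr => by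
      rw [Ideal.mem_comap, RingHom.mem_ker]
      show v (algebraMap A B r) = 0
      rw [AlgHom.commutes]
      show algebraMap (A ⧸ I) D (Ideal.Quotient.mk I r) = 0
      rw [Ideal.Quotient.eq_zero_iff_mem.2 hr, map_zero]
    exact hle hx
  refine ⟨(Ideal.Quotient.liftₐ _ v hvK).extendScalarsOfSurjective Ideal.Quotient.mk_surjective,
    AlgHom.ext fun x => ?_⟩
  obtain ⟨x, rfl⟩ := Ideal.Quotient.mk_surjective x
  exact DFunLike.congr_fun hv x

variable [IsAdicComplete (maximalIdeal A) A] [IsAdicComplete (maximalIdeal B) B]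

include hfs hdim in
/-- **Normal base.** -/
theorem purityHolds_normal [IsDomain A] [IsIntegrallyClosed A] {n : ℕ} (IH : ∀ m < n, PurityUpTo.{u} m)
    (h1 : (1 : WithBot ℕ∞) ≤ ringKrullDim A) (hn : ringKrullDim A ≤ (n : WithBot ℕ∞)) : FEt.PurityHolds B := by
  haveI := GRingCpl.flat_of_adicFormallySmooth hfs
  obtain ⟨d, hd⟩ := SerreReg.exists_dim_nat A
  rw [hd] at h1 hn
  norm_cast at h1 hn
  rcases Nat.lt_or_ge d 2 with h | h
  · obtain rfl : d = 1 := by omega
    haveI : Ring.KrullDimLE 1 A := Ring.krullDimLE_iff.2 (by rw [hd])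
    haveI : Ring.DimensionLEOne A := ⟨fun hp hprime =>
      (Ring.krullDimLE_one_iff_of_isPrime_bot.1 inferInstance) _ hp hprime⟩
    haveI : IsDedekindRing A := ⟨⟩
    haveI : IsDedekindDomain A := ⟨⟩
    haveI : IsPrincipalIdealRing A := IsPrincipalIdealRing.of_finite_maximals (by
      refine Set.Subsingleton.finite fun a ha b hb => ?_
      rw [IsLocalRing.eq_maximalIdeal ha, IsLocalRing.eq_maximalIdeal hb])
    haveI := isRegularLocalRing_of_regular hfs
    refine S0247.result B ?_
    rw [TorCI.ringKrullDim_flat_local A B, hd, hdim]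
    norm_num
  -- cut by a parameter
  have hA2 : (2 : ℕ∞) ≤ LocCoh.depth A A := by
    haveI : IsLocalization (maximalIdeal A).primeCompl A :=
      IsLocalization.self fun x hx => (IsUnit.mem_submonoid_iff x).2 (by simpa [Ideal.primeCompl, mem_nonunits_iff] using hx)
    rw [FlatDepth.depth_ringEquiv (IsLocalization.algEquiv (maximalIdeal A).primeCompl A
      (Localization.AtPrime (maximalIdeal A))).toRingEquiv]
    refine ReflLoc.two_le_depth_atPrime _ ?_
    have h2 : (2 : WithBot ℕ∞) ≤ ((maximalIdeal A).height : WithBot ℕ∞) := by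
      rw [IsLocalRing.maximalIdeal_height_eq_ringKrullDim, hd]
      exact_mod_cast h
    exact WithBot.coe_le_coe.1 h2
  have hB3 : (3 : ℕ∞) ≤ LocCoh.depth B B := depth_succ_le hfs hdim hA2
  obtain ⟨x, hxm, hx0⟩ : ∃ x ∈ maximalIdeal A, x ≠ 0 := by
    by_contra hc
    push Not at hc
    have hb : maximalIdeal A = ⊥ := eq_bot_iff.2 fun x hx => by simpa using hc x hx
    rw [ringKrullDim_eq_zero_of_isField (isField_iff_maximalIdeal_eq.2 hb)] at hd
    have : d = 0 := by exact_mod_cast hd.symm
    omega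
  let x' := algebraMap A B x
  have hxm' : x' ∈ maximalIdeal B := map_nonunit (algebraMap A B) x hxm
  have hregA : IsSMulRegular A x := fun a b hab => mul_left_cancel₀ hx0 hab
  have hreg : IsSMulRegular B x' := fun y z hyz => by
    refine Module.Flat.isSMulRegular_of_nonZeroDivisors (R := A) (mem_nonZeroDivisors_of_ne_zero hx0) ?_
    show x • y = x • z
    rw [Algebra.smul_def, Algebra.smul_def]
    exact hyz
  let I : Ideal A := Ideal.span {x}
  let K : Ideal B := Ideal.span {x'}
  have hK : K = I.map (algebraMap A B) := by rw [Ideal.map_span, Set.image_singleton]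
  have hIne : I ≠ ⊤ := fun e => (maximalIdeal.isMaximal A).ne_top
    (top_le_iff.1 (e ▸ (Ideal.span_singleton_le_iff_mem _).2 hxm))
  have hKne : K ≠ ⊤ := fun e => (maximalIdeal.isMaximal B).ne_top
    (top_le_iff.1 (e ▸ (Ideal.span_singleton_le_iff_mem _).2 hxm'))
  haveI : Nontrivial (A ⧸ I) := Ideal.Quotient.nontrivial_iff.2 hIne
  haveI : Nontrivial (B ⧸ K) := Ideal.Quotient.nontrivial_iff.2 hKne
  haveI : IsLocalRing (A ⧸ I) := .of_surjective' _ Ideal.Quotient.mk_surjective
  haveI : IsLocalRing (B ⧸ K) := .of_surjective' _ Ideal.Quotient.mk_surjective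
  haveI : IsAdicComplete (maximalIdeal (A ⧸ I)) (A ⧸ I) := EGA41FS.isAdicComplete_quotient I
  haveI : IsAdicComplete (maximalIdeal (B ⧸ K)) (B ⧸ K) := EGA41FS.isAdicComplete_quotient K
  letI : Algebra (A ⧸ I) (B ⧸ K) :=
    (Ideal.quotientMap K (algebraMap A B) (Ideal.map_le_iff_le_comap.1 hK.ge)).toAlgebra
  haveI : IsScalarTower A (A ⧸ I) (B ⧸ K) := IsScalarTower.of_algebraMap_eq fun _ => rfl
  have hmA : (maximalIdeal A).map (Ideal.Quotient.mk I) = maximalIdeal (A ⧸ I) :=
    map_maximalIdeal_of_surjective _ Ideal.Quotient.mk_surjective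
  have hmB : (maximalIdeal B).map (Ideal.Quotient.mk K) = maximalIdeal (B ⧸ K) :=
    map_maximalIdeal_of_surjective _ Ideal.Quotient.mk_surjective
  have hm : (maximalIdeal (A ⧸ I)).map (algebraMap (A ⧸ I) (B ⧸ K)) =
      ((maximalIdeal A).map (algebraMap A B)).map (Ideal.Quotient.mk K) := by
    rw [← hmA, Ideal.map_map, Ideal.map_map]
    rfl
  haveI : IsLocalHom (algebraMap (A ⧸ I) (B ⧸ K)) := ((local_hom_TFAE _).out 0 2).2 (by
    rw [hm, ← hmB]
    exact Ideal.map_mono (((local_hom_TFAE (algebraMap A B)).out 0 2).1 ‹_›))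
  have hfsK : CAlgX.IsAdicFormallySmooth (A ⧸ I) (B ⧸ K) (maximalIdeal (B ⧸ K)) := hmB ▸ fs_quotient I K hK hfs
  have hdimK : ringKrullDim ((B ⧸ K) ⧸ (maximalIdeal (A ⧸ I)).map (algebraMap (A ⧸ I) (B ⧸ K))) = 1 := by
    rw [ringKrullDim_eq_of_ringEquiv (Ideal.quotEquivOfEq hm),
      ringKrullDim_eq_of_ringEquiv (DoubleQuot.quotQuotEquivQuotSup K ((maximalIdeal A).map (algebraMap A B))),
      ringKrullDim_eq_of_ringEquiv (Ideal.quotEquivOfEq (sup_eq_right.2 (hK ▸ Ideal.map_mono
        ((Ideal.span_singleton_le_iff_mem _).2 hxm))))]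
    exact hdim
  have hdI : ringKrullDim (A ⧸ I) + 1 = ringKrullDim A :=
    ringKrullDim_quotient_span_singleton_succ_eq_ringKrullDim_of_mem_jacobson hregA
      (IsLocalRing.ringJacobson_eq_maximalIdeal A ▸ hxm)
  obtain ⟨e, he⟩ := SerreReg.exists_dim_nat (A ⧸ I)
  rw [he, hd] at hdI
  norm_cast at hdI
  have hP : FEt.PurityHolds (B ⧸ K) := IH (n - 1) (by omega) (A ⧸ I) (B ⧸ K) hfsK hdimK
    (by rw [he]; exact_mod_cast (show 1 ≤ e by omega)) (by rw [he]; exact_mod_cast (show e ≤ n - 1 by omega))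
  refine LefEssSurj.purityHolds_of_extends fun E => ?_
  obtain ⟨R₀, _, _, θ, hθ⟩ := TorCI.exists_regular_cover B
  haveI : IsRegularRing R₀ := SerreReg.isRegularRing_of_isRegularLocalRing R₀
  haveI : IsAdicComplete (Ideal.span {x'}) B := EGA41Cohen.isAdicComplete_ideal _ hKne
  exact LefEssSurj.extends_of_quotient θ hθ x' hxm' hreg (LefEssSurj.depth_coheight_one hB3) E
    (LefEssSurj.extends_of_purityHolds hP _)

end Groth.Agent.PurGR
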