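import Groth.Agent.PurGR.Main
import Groth.Agent.GeomProp.RegLocal
import Groth.Agent.PtBlow.Rational
import Groth.Agent.ParaFLib.UfdApply
import Groth.Agent.S0247
import Groth.Agent.LefEssSurj.FlatPurity

/-!
Purity at the points of the closed fibre of an adically formally smooth local algebra.
-/

set_option autoImplicit false
set_option linter.style.haveILetI false
set_option maxHeartbeats 1000000
set_option backward.isDefEq.respectTransparency false
set_option backward.isDefEq.respectTransparency.types false
universe u

open IsLocalRing TensorProduct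

noncomputable section

namespace Groth.Agent.PurGR

attribute [local instance] Algebra.TensorProduct.rightAlgebra

/-- Localisations of a geometrically regular fibre. -/
theorem geomRegular_fibre_localization {A B : Type u} [CommRing A] [CommRing B] [Algebra A B] (m : Ideal A) [m.IsPrime]
    (L : Type u) [CommRing L] [Algebra B L] [Algebra A L] [IsScalarTower A B L] (S : Submonoid B) [IsLocalization S L]
    (h : CAlg.IsGeometricallyRegular m.ResidueField (m.Fiber B)) :
    CAlg.IsGeometricallyRegular m.ResidueField (m.Fiber L) := by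
  intro k' _ _ hfin
  letI : Algebra A k' := ((algebraMap m.ResidueField k').comp (algebraMap A m.ResidueField)).toAlgebra
  haveI : IsScalarTower A m.ResidueField k' := IsScalarTower.of_algebraMap_eq' rfl
  let eB := (Algebra.TensorProduct.cancelBaseChange A m.ResidueField k' k' B).toRingEquiv
  let eL := (Algebra.TensorProduct.cancelBaseChange A m.ResidueField k' k' L).toRingEquiv
  haveI := h k' hfin
  haveI : IsRegularRing (B ⊗[A] k') :=
    IsRegularRing.of_ringEquiv (eB.trans (Algebra.TensorProduct.comm A k' B).toRingEquiv)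
  have h2 : IsRegularRing (L ⊗[B] (B ⊗[A] k')) :=
    GeomProp.isRegularRing_of_isLocalization (Algebra.algebraMapSubmonoid (B ⊗[A] k') S) ‹_›
  haveI := h2
  exact IsRegularRing.of_ringEquiv (((Algebra.TensorProduct.cancelBaseChange A B L L k').toRingEquiv.trans
    (Algebra.TensorProduct.comm A L k').toRingEquiv).trans eL.symm)

variable {A B : Type u} [CommRing A] [IsLocalRing A] [IsNoetherianRing A]
  [CommRing B] [IsLocalRing B] [IsNoetherianRing B] [Algebra A B] [IsLocalHom (algebraMap A B)]

/-- Depth and purity at the points of the closed fibre, off its generic point. -/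
theorem depth_purity_atPrime (hfs : CAlgX.IsAdicFormallySmooth A B (maximalIdeal B))
    (hA : (2 : ℕ∞) ≤ LocCoh.depth A A) (q : Ideal B) [q.IsPrime]
    (hq : q.comap (algebraMap A B) = maximalIdeal A) (hne : q ≠ (maximalIdeal A).map (algebraMap A B)) :
    (2 : ℕ∞) ≤ LocCoh.depth (Localization.AtPrime q) (Localization.AtPrime q) ∧
      FEt.PurityHolds (Localization.AtPrime q) := by
  let L := Localization.AtPrime q
  obtain ⟨hflat, hgeo⟩ := S2038.result.2 hfs
  haveI := hflat
  haveI : Module.Flat A L := Module.Flat.trans A B L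
  haveI : IsLocalHom (algebraMap A L) := ⟨fun a ha => by
    by_contra h
    have h1 : algebraMap A B a ∈ q := by
      rw [← Ideal.mem_comap, hq]
      exact h
    rw [IsScalarTower.algebraMap_apply A B L] at ha
    exact (IsLocalization.AtPrime.isUnit_to_map_iff L q _).1 ha h1⟩
  have hfsL : CAlgX.IsAdicFormallySmooth A L (maximalIdeal L) :=
    S2038.result.1 ⟨inferInstance, geomRegular_fibre_localization _ L q.primeCompl hgeo⟩
  haveI := isRegularLocalRing_fibre hfsL
  obtain ⟨d, hd⟩ := SerreReg.exists_dim_nat (L ⧸ (maximalIdeal A).map (algebraMap A L))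
  have hd0 : d ≠ 0 := fun h0 => hne (by
    subst h0
    haveI := isRegularLocalRing_fibre hfs
    haveI : IsDomain (B ⧸ (maximalIdeal A).map (algebraMap A B)) := RegLoc.isDomain _
    have hP : ((maximalIdeal A).map (algebraMap A B)).IsPrime := (Ideal.Quotient.isDomain_iff_prime _).1 ‹_›
    haveI : IsDomain (L ⧸ (maximalIdeal A).map (algebraMap A L)) := RegLoc.isDomain _
    haveI : Ring.KrullDimLE 0 (L ⧸ (maximalIdeal A).map (algebraMap A L)) := Ring.krullDimLE_iff.2 (by rw [hd])
    have hmax : ((maximalIdeal A).map (algebraMap A L)).IsMaximal :=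
      Ideal.Quotient.maximal_of_isField _ (Ring.KrullDimLE.isField_of_isDomain)
    have hle : (maximalIdeal A).map (algebraMap A B) ≤ q := Ideal.map_le_iff_le_comap.2 hq.ge
    rw [← IsLocalization.AtPrime.under_maximalIdeal L q, ← eq_maximalIdeal hmax,
      IsScalarTower.algebraMap_eq A B L, ← Ideal.map_map, IsLocalization.under_map_of_isPrime_disjoint q.primeCompl _ hP]
    exact Set.disjoint_left.2 fun x hx hx' => hx (hle hx'))
  have h1 : (1 : ℕ∞) ≤ LocCoh.depth A A := le_trans (by norm_num) hA
  rcases Nat.lt_or_ge d 2 with h | h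
  · obtain rfl : d = 1 := by omega
    rw [Nat.cast_one] at hd
    exact ⟨le_trans (by norm_num) (depth_succ_le hfsL hd hA), purityHolds_fibre_dim_one hfsL hd h1⟩
  · have h2 : (2 : WithBot ℕ∞) ≤ ringKrullDim (L ⧸ (maximalIdeal A).map (algebraMap A L)) :=
      hd ▸ Nat.ofNat_le_cast.2 h
    obtain ⟨hdom, hic⟩ := PtBlow.isNormal_of_regular (R := L ⧸ (maximalIdeal A).map (algebraMap A L))
    haveI := hdom
    haveI := hic
    have hdep := ParaFLib.two_le_depth_of_normal _ h2
    refine ⟨le_trans ?_ (RamSam.depth_ge_add_one hA (le_trans (by norm_num) hdep)),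
      LefEssSurj.purityHolds_of_fibre A L hdep (S0247.result _ h2)⟩
    norm_num

end Groth.Agent.PurGR
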