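import Groth.Agent.S2038
import Groth.Agent.RamSam.Final
import Groth.Agent.RegLoc.Order

/-!
Permanence of adic formal smoothness of local algebras: base change, étale extensions, localisations,
completion; the closed fibre.
-/

set_option autoImplicit false
set_option linter.style.haveILetI false
set_option backward.isDefEq.respectTransparency false
universe u

open IsLocalRing TensorProduct

noncomputable section

namespace Groth.Agent.PurGR

/-- Enlarging the ideal keeps adic formal smoothness. -/
theorem fs_mono {A B : Type u} [CommRing A] [CommRing B] [Algebra A B] {I I' : Ideal B} (h : I ≤ I')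
    (hfs : CAlgX.IsAdicFormallySmooth A B I) : CAlgX.IsAdicFormallySmooth A B I' :=
  fun D _ _ J hJ u ⟨k, hk⟩ => hfs D J hJ u ⟨k, fun x hx => hk x (Ideal.pow_right_mono h k hx)⟩

/-- Adic formal smoothness over a base ideal mapping into the maximal ideal. -/
theorem fs_of_egafs {A B : Type u} [CommRing A] [CommRing B] [Algebra A B] {𝔞 : Ideal A} {I : Ideal B}
    (h : 𝔞.map (algebraMap A B) ≤ I) (hfs : EGA41.IsFormallySmoothAdic A 𝔞 B I) :
    CAlgX.IsAdicFormallySmooth A B I := by
  intro D _ _ J hJ u hu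
  obtain ⟨k, hk⟩ := hu
  refine hfs D J ⟨2, hJ⟩ ⟨k * 2, ?_⟩ u ⟨k, hk⟩
  have h1 : (𝔞 ^ k).map (algebraMap A D) ≤ J := Ideal.map_le_iff_le_comap.2 fun a ha => by
    rw [Ideal.mem_comap, ← Ideal.Quotient.eq_zero_iff_mem]
    have h2 : algebraMap A B a ∈ I ^ k :=
      Ideal.pow_right_mono h k (by rw [← Ideal.map_pow]; exact Ideal.mem_map_of_mem _ ha)
    rw [← hk _ h2, AlgHom.commutes]
    rfl
  rw [pow_mul, Ideal.map_pow, ← le_bot_iff, ← hJ]
  exact Ideal.pow_right_mono h1 2

theorem egafs_of_fs {A B : Type u} [CommRing A] [CommRing B] [Algebra A B] {𝔞 : Ideal A} {I : Ideal B}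
    (hfs : CAlgX.IsAdicFormallySmooth A B I) : EGA41.IsFormallySmoothAdic A 𝔞 B I :=
  fun C _ _ J hJ _ u hu => (S4537.result _).mp hfs C J hJ ⟨1, by rw [pow_one, Ideal.map_bot]⟩ u hu

/-- Base change. -/
theorem fs_baseChange {A B A' : Type u} [CommRing A] [CommRing B] [CommRing A'] [Algebra A B] [Algebra A A']
    {I : Ideal B} (hfs : CAlgX.IsAdicFormallySmooth A B I) :
    CAlgX.IsAdicFormallySmooth A' (A' ⊗[A] B)
      (I.map (Algebra.TensorProduct.includeRight : B →ₐ[A] A' ⊗[A] B).toRingHom) := by
  intro D _ _ J hJ u hu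
  letI : Algebra A D := ((algebraMap A' D).comp (algebraMap A A')).toAlgebra
  haveI : IsScalarTower A A' D := IsScalarTower.of_algebraMap_eq' rfl
  obtain ⟨k, hk⟩ := hu
  obtain ⟨v, hv⟩ := hfs D J hJ ((u.restrictScalars A).comp Algebra.TensorProduct.includeRight)
    ⟨k, fun x hx => hk _ (by rw [← Ideal.map_pow]; exact Ideal.mem_map_of_mem _ hx)⟩
  refine ⟨Algebra.TensorProduct.lift (Algebra.ofId A' D) v fun _ _ => Commute.all _ _, ?_⟩
  refine Algebra.TensorProduct.ext (Subsingleton.elim _ _) ?_
  ext b
  simpa using DFunLike.congr_fun hv b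

/-- Formally étale extensions. -/
theorem fs_etale {A B C : Type u} [CommRing A] [CommRing B] [CommRing C] [Algebra A B] [Algebra B C] [Algebra A C]
    [IsScalarTower A B C] [Algebra.FormallyEtale B C] {I : Ideal B}
    (hfs : CAlgX.IsAdicFormallySmooth A B I) : CAlgX.IsAdicFormallySmooth A C (I.map (algebraMap B C)) := by
  intro D _ _ J hJ u hu
  obtain ⟨k, hk⟩ := hu
  obtain ⟨v, hv⟩ := hfs D J hJ (u.comp (IsScalarTower.toAlgHom A B C))
    ⟨k, fun x hx => hk _ (by rw [← Ideal.map_pow]; exact Ideal.mem_map_of_mem _ hx)⟩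
  letI : Algebra B D := v.toRingHom.toAlgebra
  haveI : IsScalarTower A B D := IsScalarTower.of_algebraMap_eq fun a => (v.commutes a).symm
  let u' : C →ₐ[B] D ⧸ J :=
    { u.toRingHom with commutes' := fun b => (DFunLike.congr_fun hv b).symm }
  obtain ⟨w, hw⟩ : ∃ w : C →ₐ[B] D, (Ideal.Quotient.mkₐ B J).comp w = u' :=
    ⟨Algebra.FormallySmooth.lift J ⟨2, hJ⟩ u', Algebra.FormallySmooth.comp_lift J ⟨2, hJ⟩ u'⟩
  exact ⟨w.restrictScalars A, AlgHom.ext fun c => DFunLike.congr_fun hw c⟩

/-- Localisations. -/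
theorem fs_localization {A B : Type u} [CommRing A] [CommRing B] [Algebra A B] {I : Ideal B} (S : Submonoid B)
    (L : Type u) [CommRing L] [Algebra B L] [Algebra A L] [IsScalarTower A B L] [IsLocalization S L]
    (hfs : CAlgX.IsAdicFormallySmooth A B I) : CAlgX.IsAdicFormallySmooth A L (I.map (algebraMap B L)) := by
  haveI : Algebra.FormallyEtale B L := Algebra.FormallyEtale.of_isLocalization S
  exact fs_etale hfs

/-- Localisations of the base. -/
theorem fs_base_localization {A A' B : Type u} [CommRing A] [CommRing A'] [CommRing B] [Algebra A A']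
    [Algebra A B] [Algebra A' B] [IsScalarTower A A' B] (S : Submonoid A) [IsLocalization S A'] {I : Ideal B}
    (hfs : CAlgX.IsAdicFormallySmooth A B I) : CAlgX.IsAdicFormallySmooth A' B I := by
  intro D _ _ J hJ u hu
  letI : Algebra A D := ((algebraMap A' D).comp (algebraMap A A')).toAlgebra
  haveI : IsScalarTower A A' D := IsScalarTower.of_algebraMap_eq' rfl
  obtain ⟨v, hv⟩ := hfs D J hJ (u.restrictScalars A) hu
  have h : v.toRingHom.comp (algebraMap A' B) = algebraMap A' D := by
    refine IsLocalization.ringHom_ext S (RingHom.ext fun a => ?_)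
    show v (algebraMap A' B (algebraMap A A' a)) = algebraMap A' D (algebraMap A A' a)
    rw [← IsScalarTower.algebraMap_apply, AlgHom.commutes, IsScalarTower.algebraMap_apply A A' D]
  exact ⟨{ v with commutes' := fun x => RingHom.congr_fun h x }, AlgHom.ext fun b => DFunLike.congr_fun hv b⟩

/-- Completion of source and target. -/
theorem fs_completion {A B : Type u} [CommRing A] [IsLocalRing A] [IsNoetherianRing A]
    [CommRing B] [IsLocalRing B] [IsNoetherianRing B] [Algebra A B] [IsLocalHom (algebraMap A B)]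
    (hfs : CAlgX.IsAdicFormallySmooth A B (maximalIdeal B)) :
    ∃ (_ : Algebra (AdicCompletion (maximalIdeal A) A) (AdicCompletion (maximalIdeal B) B))
      (_ : IsScalarTower A (AdicCompletion (maximalIdeal A) A) (AdicCompletion (maximalIdeal B) B))
      (_ : IsLocalHom (algebraMap (AdicCompletion (maximalIdeal A) A) (AdicCompletion (maximalIdeal B) B))),
      CAlgX.IsAdicFormallySmooth (AdicCompletion (maximalIdeal A) A) (AdicCompletion (maximalIdeal B) B)
        (maximalIdeal (AdicCompletion (maximalIdeal B) B)) := by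
  let A' := AdicCompletion (maximalIdeal A) A
  let B' := AdicCompletion (maximalIdeal B) B
  haveI : IsNoetherianRing A' := AdicBasics.isNoetherianRing_completion A
  haveI : IsNoetherianRing B' := AdicBasics.isNoetherianRing_completion B
  obtain ⟨ψ, hψ⟩ := RamSam.exists_completionMap (algebraMap A B)
  letI : Algebra A' B' := ψ.toAlgebra
  haveI : IsScalarTower A A' B' := IsScalarTower.of_algebraMap_eq' (by
    rw [show algebraMap A' B' = ψ from rfl, hψ, ← IsScalarTower.algebraMap_eq])
  haveI : IsLocalHom (algebraMap A' B') := AdicBasics.isLocalHom_completionMap (algebraMap A B) ψ hψ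
  refine ⟨inferInstance, inferInstance, inferInstance,
    fs_of_egafs (((local_hom_TFAE (algebraMap A' B')).out 0 2).1 ‹_›) ?_⟩
  rw [AdicCompletion.maximalIdeal_eq_map, AdicCompletion.maximalIdeal_eq_map]
  exact RamSam.isFormallySmoothAdic_upgrade _ _
    (fun x n => GRingCpl.exists_sub_mem_pow_cpl (maximalIdeal A) (IsNoetherian.noetherian _) x n)
    ((S2461.result (maximalIdeal A) (maximalIdeal B)).1 (egafs_of_fs hfs))

section Fibre

variable {A B : Type u} [CommRing A] [IsLocalRing A] [IsNoetherianRing A]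
  [CommRing B] [IsLocalRing B] [IsNoetherianRing B] [Algebra A B] [IsLocalHom (algebraMap A B)]

omit [IsNoetherianRing A] [IsLocalRing B] [IsNoetherianRing B] [IsLocalHom (algebraMap A B)] in
/-- The fibre as a quotient. -/
theorem exists_fibre_equiv :
    Nonempty ((B ⧸ (maximalIdeal A).map (algebraMap A B)) ≃+* ((maximalIdeal A).Fiber B)) := by
  let e₀ := RingEquiv.ofBijective (algebraMap (A ⧸ maximalIdeal A) (maximalIdeal A).ResidueField)
    (maximalIdeal A).bijective_algebraMap_quotient_residueField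
  let e₁ : (A ⧸ maximalIdeal A) ≃ₐ[A] (maximalIdeal A).ResidueField :=
    AlgEquiv.ofRingEquiv (f := e₀) fun a => (IsScalarTower.algebraMap_apply A (A ⧸ maximalIdeal A) _ a).symm
  exact ⟨(Algebra.TensorProduct.quotIdealMapEquivTensorQuot B (maximalIdeal A)).toRingEquiv.trans
    ((Algebra.TensorProduct.comm A B (A ⧸ maximalIdeal A)).toRingEquiv.trans
      (Algebra.TensorProduct.congr e₁ AlgEquiv.refl).toRingEquiv)⟩

/-- The closed fibre of an adically formally smooth local algebra is regular. -/
theorem isRegularLocalRing_fibre (hfs : CAlgX.IsAdicFormallySmooth A B (maximalIdeal B)) :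
    IsRegularLocalRing (B ⧸ (maximalIdeal A).map (algebraMap A B)) := by
  let κ := (maximalIdeal A).ResidueField
  let F := (maximalIdeal A).Fiber B
  obtain ⟨e⟩ := exists_fibre_equiv (A := A) (B := B)
  have hreg : IsRegularRing (κ ⊗[κ] F) := (S2038.result.2 hfs).2 κ inferInstance
  haveI : IsRegularRing F :=
    FlatDepth.isRegularRing_of_equiv (κ ⊗[κ] F) F (Algebra.TensorProduct.lid κ F).toRingEquiv hreg
  haveI : IsRegularRing (B ⧸ (maximalIdeal A).map (algebraMap A B)) := IsRegularRing.of_ringEquiv e.symm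
  have hne : (maximalIdeal A).map (algebraMap A B) ≠ ⊤ := fun h =>
    (maximalIdeal.isMaximal B).ne_top (top_le_iff.1 (h ▸ ((local_hom_TFAE (algebraMap A B)).out 0 2).1 ‹_›))
  haveI : Nontrivial (B ⧸ (maximalIdeal A).map (algebraMap A B)) := Ideal.Quotient.nontrivial_iff.2 hne
  haveI : IsLocalRing (B ⧸ (maximalIdeal A).map (algebraMap A B)) := .of_surjective' _ Ideal.Quotient.mk_surjective
  exact IsRegularLocalRing.of_isRegularRing_of_isLocalRing _

end Fibre

end Groth.Agent.PurGR
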